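import Mathlib
import Groth.Agent.CohenStruct.N2

/-!
# Completions of Noetherian local rings: quotients and finite extensions

`Quot`: if the completion of `R ⧸ I` is reduced, so is `R^ ⧸ I R^`.
`Finite`: if `R → B` is finite injective and the completions of `B_M` are reduced, so is `R^`.
-/

universe u

open IsLocalRing

namespace Groth.Agent.NagataUJ

/-- Krull intersection, modulo an ideal. -/
theorem mem_of_forall_mem_sup_pow {A : Type*} [CommRing A] [IsNoetherianRing A] [IsLocalRing A]
    (I : Ideal A) (x : A) (h : ∀ n : ℕ, x ∈ I ⊔ maximalIdeal A ^ n) : x ∈ I := by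
  by_cases hI : I = ⊤
  · rw [hI]; exact Submodule.mem_top
  have : Nontrivial (A ⧸ I) := Ideal.Quotient.nontrivial_iff.mpr hI
  have : IsLocalRing (A ⧸ I) := .of_surjective' (Ideal.Quotient.mk I) Ideal.Quotient.mk_surjective
  have h0 : Ideal.Quotient.mk I x ∈ ⨅ n : ℕ, maximalIdeal (A ⧸ I) ^ n := by
    rw [Ideal.mem_iInf]
    intro n
    have := Ideal.mem_map_of_mem (Ideal.Quotient.mk I) (h n)
    rwa [Ideal.map_sup, Ideal.map_quotient_self, bot_sup_eq, Ideal.map_pow,
      map_maximalIdeal_of_surjective _ Ideal.Quotient.mk_surjective] at this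
  have h1 := (Ideal.iInf_pow_eq_bot_of_isLocalRing (I := maximalIdeal (A ⧸ I))
    (maximalIdeal.isMaximal _).ne_top).le h0
  exact Ideal.Quotient.eq_zero_iff_mem.mp (Ideal.mem_bot.mp h1)

section

variable {R : Type u} [CommRing R] [IsLocalRing R] [IsNoetherianRing R]

theorem mem_pow_iff_evalₐ (z : AdicCompletion (maximalIdeal R) R) (n : ℕ) :
    z ∈ maximalIdeal (AdicCompletion (maximalIdeal R) R) ^ n ↔
      AdicCompletion.evalₐ (maximalIdeal R) n z = 0 := by
  rw [AdicCompletion.maximalIdeal_eq_map, ← Ideal.map_pow, ← Submodule.restrictScalars_mem R,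
    ← Ideal.smul_top_eq_map, AdicCompletion.pow_smul_top_eq_ker_eval
      (maximalIdeal R).fg_of_isNoetherianRing, LinearMap.mem_ker]
  constructor
  · intro h
    rw [← AdicCompletion.factor_eval_eq_evalₐ _ z (by simp), h, map_zero]
  · intro h
    rw [← AdicCompletion.factor_evalₐ_eq_eval _ z (by simp), h, map_zero]

omit [IsNoetherianRing R] in
/-- Compatible representatives of an element of the completion. -/
theorem exists_seq (z : AdicCompletion (maximalIdeal R) R) :
    ∃ a : ℕ → R, (∀ n, AdicCompletion.evalₐ (maximalIdeal R) n z = Ideal.Quotient.mk _ (a n)) ∧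
      ∀ {m n : ℕ}, m ≤ n → a m - a n ∈ maximalIdeal R ^ m := by
  induction z using AdicCompletion.induction_on with
  | h s =>
    refine ⟨s.val, fun n => AdicCompletion.evalₐ_mk _ n s, fun {m n} hmn => ?_⟩
    have := s.property hmn
    rwa [SModEq.sub_mem, Ideal.smul_eq_mul, Ideal.mul_top] at this

/-- The map of completions induced by a local homomorphism. -/
theorem exists_completionMap {B : Type u} [CommRing B] [IsLocalRing B] (f : R →+* B)
    (hf : (maximalIdeal R).map f ≤ maximalIdeal B) :
    ∃ ψ : AdicCompletion (maximalIdeal R) R →+* AdicCompletion (maximalIdeal B) B,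
      ∀ (n : ℕ) (z : AdicCompletion (maximalIdeal R) R) (a : R),
        AdicCompletion.evalₐ (maximalIdeal R) n z = Ideal.Quotient.mk _ a →
        AdicCompletion.evalₐ (maximalIdeal B) n (ψ z) = Ideal.Quotient.mk _ (f a) := by
  have hn : ∀ n : ℕ, maximalIdeal R ^ n ≤ (maximalIdeal B ^ n).comap f := fun n => by
    rw [← Ideal.map_le_iff_le_comap, Ideal.map_pow]
    exact Ideal.pow_right_mono hf n
  refine ⟨AdicCompletion.liftRingHom (maximalIdeal B)
    (fun n => (Ideal.quotientMap _ f (hn n)).comp
      (AdicCompletion.evalₐ (maximalIdeal R) n).toRingHom) ?_, ?_⟩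
  · intro m n hmn
    ext z
    obtain ⟨a, ha, hc⟩ := exists_seq z
    simp only [RingHom.comp_apply, AlgHom.toRingHom_eq_coe, RingHom.coe_coe, ha,
      Ideal.quotientMap_mk, Ideal.Quotient.factor_mk]
    rw [Ideal.Quotient.eq, ← map_sub]
    have := hn m (hc hmn)
    rw [← neg_sub, map_neg]
    exact neg_mem this
  · intro n z a ha
    rw [AdicCompletion.evalₐ_liftRingHom]
    simp [ha]

/-- If the completion of `R ⧸ I` is reduced, so is `R^ ⧸ I R^`. -/
theorem mem_map_of_sq_mem (I : Ideal R) [IsLocalRing (R ⧸ I)]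
    (hred : IsReduced (AdicCompletion (maximalIdeal (R ⧸ I)) (R ⧸ I)))
    (z : AdicCompletion (maximalIdeal R) R)
    (hz : z ^ 2 ∈ I.map (algebraMap R (AdicCompletion (maximalIdeal R) R))) :
    z ∈ I.map (algebraMap R (AdicCompletion (maximalIdeal R) R)) := by
  obtain ⟨ψ, hψ⟩ := exists_completionMap (Ideal.Quotient.mk I)
    (le_of_eq (map_maximalIdeal_of_surjective _ Ideal.Quotient.mk_surjective))
  have hker : I.map (algebraMap R (AdicCompletion (maximalIdeal R) R)) ≤ RingHom.ker ψ := by
    rw [Ideal.map_le_iff_le_comap]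
    intro i hi
    refine AdicCompletion.ext_evalₐ fun n => ?_
    rw [hψ n _ i ((AdicCompletion.evalₐ (maximalIdeal R) n).commutes i),
      Ideal.Quotient.eq_zero_iff_mem.mpr hi, map_zero, map_zero]
  have h2 : (ψ z) ^ 2 = 0 := by rw [← map_pow]; exact hker hz
  have h0 : ψ z = 0 := hred.eq_zero _ ⟨2, h2⟩
  have := CohenStruct.isNoetherianRing_completion R
  refine mem_of_forall_mem_sup_pow _ z fun n => ?_
  obtain ⟨a, ha, -⟩ := exists_seq z
  have h := hψ n z (a n) (ha n)
  rw [h0, map_zero, eq_comm, Ideal.Quotient.eq_zero_iff_mem,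
    ← map_maximalIdeal_of_surjective _ Ideal.Quotient.mk_surjective, ← Ideal.map_pow,
    Ideal.mem_quotient_iff_mem_sup] at h
  obtain ⟨b, hb, c, hc, hbc⟩ := Submodule.mem_sup.mp h
  have e1 : algebraMap R (AdicCompletion (maximalIdeal R) R) c ∈
      I.map (algebraMap R (AdicCompletion (maximalIdeal R) R)) := Ideal.mem_map_of_mem _ hc
  have e2 : z - algebraMap R (AdicCompletion (maximalIdeal R) R) c ∈
      maximalIdeal (AdicCompletion (maximalIdeal R) R) ^ n := by
    rw [mem_pow_iff_evalₐ, map_sub, ha n, AlgHom.commutes, ← hbc, map_add,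
      Ideal.Quotient.eq_zero_iff_mem.mpr hb, zero_add]
    exact sub_self _
  exact Submodule.mem_sup.mpr ⟨_, e1, _, e2, add_sub_cancel _ _⟩

/-- Reducedness of the completion descends along finite injective extensions. -/
theorem isReduced_completion_of_finite {B : Type u} [CommRing B] [Algebra R B] [Module.Finite R B]
    (hinj : Function.Injective (algebraMap R B))
    (hB : ∀ (M : Ideal B) [M.IsMaximal], IsReduced
      (AdicCompletion (maximalIdeal (Localization.AtPrime M)) (Localization.AtPrime M))) :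
    IsReduced (AdicCompletion (maximalIdeal R) R) := by
  have : IsNoetherianRing B := IsNoetherianRing.of_finite R B
  refine ⟨fun z hz => AdicCompletion.ext_evalₐ fun n => ?_⟩
  rw [map_zero]
  obtain ⟨k, hk⟩ := Ideal.exists_pow_inf_eq_pow_smul (maximalIdeal R)
    (LinearMap.range (Algebra.linearMap R B))
  obtain ⟨a, ha, hc⟩ := exists_seq z
  set N := n + k
  set J : Ideal B := (maximalIdeal R ^ N).map (algebraMap R B) with hJ
  have hloc : ∀ (M : Ideal B) [M.IsMaximal], ∃ s ∉ M, s * algebraMap R B (a N) ∈ J := by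
    intro M hM
    by_cases hJM : J ≤ M
    · let BM := Localization.AtPrime M
      have hmM : (maximalIdeal R).map (algebraMap R B) ≤ M := by
        rcases Nat.eq_zero_or_pos N with h0 | h0
        · exact absurd (by rw [hJ, h0, pow_zero, Ideal.one_eq_top, Ideal.map_top] :
            J = ⊤) (fun h => hM.ne_top (top_le_iff.mp (h ▸ hJM)))
        · exact (hM.isPrime.pow_le_iff h0.ne').mp (by rw [← Ideal.map_pow]; exact hJM)
      have hf : (maximalIdeal R).map ((algebraMap B BM).comp (algebraMap R B)) ≤ maximalIdeal BM := by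
        rw [← Ideal.map_map, ← Localization.AtPrime.map_eq_maximalIdeal]
        exact Ideal.map_mono hmM
      obtain ⟨ψ, hψ⟩ := exists_completionMap _ hf
      have h0 : ψ z = 0 := (hB M).eq_zero _ (hz.map ψ)
      have hmem : algebraMap B BM (algebraMap R B (a N)) ∈ J.map (algebraMap B BM) := by
        refine mem_of_forall_mem_sup_pow _ _ fun j => ?_
        let N' := max j N
        have h1 := hψ N' z (a N') (ha N')
        rw [h0, map_zero, eq_comm, Ideal.Quotient.eq_zero_iff_mem] at h1
        have h2 : algebraMap B BM (algebraMap R B (a N - a N')) ∈ J.map (algebraMap B BM) :=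
          Ideal.mem_map_of_mem _ (Ideal.mem_map_of_mem _ (hc (le_max_right j N)))
        have h3 := Ideal.pow_le_pow_right (le_max_left j N) h1
        refine Submodule.mem_sup.mpr ⟨_, h2, _, h3, ?_⟩
        rw [RingHom.comp_apply, map_sub, map_sub, sub_add_cancel]
      obtain ⟨s, hs, hsJ⟩ :=
        (IsLocalization.algebraMap_mem_map_algebraMap_iff M.primeCompl BM J _).mp hmem
      exact ⟨s, hs, hsJ⟩
    · obtain ⟨s, hsJ, hsM⟩ := SetLike.not_le_iff_exists.mp hJM
      exact ⟨s, hsM, Ideal.mul_mem_right _ _ hsJ⟩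
  have hmemJ : algebraMap R B (a N) ∈ J := by
    let C : Ideal B := Submodule.comap (LinearMap.mulRight B (algebraMap R B (a N))) J
    have hC : C = ⊤ := by
      by_contra hne
      obtain ⟨M, hM, hle⟩ := Ideal.exists_le_maximal C hne
      obtain ⟨s, hs, hsJ⟩ := hloc M
      exact hs (hle hsJ)
    simpa [C] using (Ideal.eq_top_iff_one C).mp hC
  have h4 : algebraMap R B (a N) ∈
      maximalIdeal R ^ N • (⊤ : Submodule R B) ⊓ LinearMap.range (Algebra.linearMap R B) :=
    ⟨by rwa [Ideal.smul_top_eq_map], a N, rfl⟩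
  rw [hk N (Nat.le_add_left k n)] at h4
  have h5 := Submodule.smul_mono le_rfl (inf_le_right (a := maximalIdeal R ^ k • (⊤ : Submodule R B))) h4
  rw [LinearMap.range_eq_map, ← Submodule.map_smul''] at h5
  obtain ⟨b, hb, hba⟩ := h5
  have hab : b = a N := hinj hba
  rw [ha n, Ideal.Quotient.eq_zero_iff_mem]
  have hbn : a N ∈ maximalIdeal R ^ n := by
    rw [← hab]
    simpa [N] using hb
  have := add_mem (hc (Nat.le_add_right n k)) hbn
  simpa [N] using this

end

end Groth.Agent.NagataUJ
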