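import Mathlib
import Groth.Agent.NagataUJ.Completion

/-!
# Analytic unramifiedness from the colon primes of a principal ideal

`isReduced_completion_of_colonPrimes`: let `T` be a Noetherian local domain and `x ≠ 0` in the
maximal ideal. If every colon prime `P` of `(x)` is locally principal and `T ⧸ P` is analytically
unramified, then so is `T`.
-/

universe u

open IsLocalRing

namespace Groth.Agent.NagataUJ

/-- `P` is a prime of the form `(J : w)`. -/
def IsColonPrime {T : Type*} [CommRing T] (J P : Ideal T) : Prop :=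
  P.IsPrime ∧ ∃ w : T, ∀ s, s ∈ P ↔ s * w ∈ J

/-- `P` becomes principal after localisation at `P`. -/
def Princ {T : Type*} [CommRing T] (P : Ideal T) : Prop :=
  ∃ π ∈ P, ∀ y ∈ P, ∃ s ∉ P, s * y ∈ Ideal.span {π}

theorem exists_colonPrime {T : Type*} [CommRing T] [IsNoetherianRing T] (J : Ideal T) (w : T)
    (hw : w ∉ J) :
    ∃ P : Ideal T, ∃ r : T, P.IsPrime ∧ r * w ∉ J ∧ ∀ s, s ∈ P ↔ s * (r * w) ∈ J := by
  let col : T → Ideal T := fun v => Submodule.comap (LinearMap.mulRight T v) J
  obtain ⟨P, ⟨r, hr, rfl⟩, hmax⟩ := set_has_maximal_iff_noetherian.mpr inferInstance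
    {C : Ideal T | ∃ r, r * w ∉ J ∧ C = col (r * w)} ⟨col (1 * w), 1, by rwa [one_mul], rfl⟩
  refine ⟨col (r * w), r, ?_, hr, fun s => Iff.rfl⟩
  rw [Ideal.isPrime_iff]
  refine ⟨fun h => hr ?_, fun {a b} hab => ?_⟩
  · have : (1 : T) * (r * w) ∈ J := (Ideal.eq_top_iff_one _).mp h
    rwa [one_mul] at this
  by_contra hne
  push Not at hne
  obtain ⟨ha, hb⟩ := hne
  have ha' : a * r * w ∉ J := fun h => ha (by
    change a * (r * w) ∈ J
    rwa [← mul_assoc])
  refine hmax (col (a * r * w)) ⟨a * r, ha', rfl⟩ (lt_of_le_of_ne (fun s hs => ?_) fun he => ?_)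
  · change s * (r * w) ∈ J at hs
    change s * (a * r * w) ∈ J
    have := J.mul_mem_left a hs
    convert this using 1; ring
  · have hb' : b ∈ col (a * r * w) := by
      change b * (a * r * w) ∈ J
      change a * b * (r * w) ∈ J at hab
      convert hab using 1; ring
    rw [← he] at hb'
    exact hb hb'

/-- A flat algebra sees no new elements killed modulo `x` by an ideal avoiding torsion. -/
theorem mem_span_of_flat {T A : Type*} [CommRing T] [CommRing A] [Algebra T A] [Module.Flat T A]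
    (x : T) (P : Ideal T) (hPfg : P.FG)
    (hP : ∀ w, (∀ a ∈ P, a * w ∈ Ideal.span ({x} : Set T)) → w ∈ Ideal.span ({x} : Set T))
    (w : A) (hw : ∀ a ∈ P, algebraMap T A a * w ∈ Ideal.span ({algebraMap T A x} : Set A)) :
    w ∈ Ideal.span ({algebraMap T A x} : Set A) := by
  classical
  obtain ⟨G, hG⟩ := hPfg
  have hv : ∀ g : G, ∃ v : A, v * algebraMap T A x = algebraMap T A g * w := fun g =>
    Ideal.mem_span_singleton'.mp (hw g (hG ▸ Ideal.subset_span g.2))
  choose v hv using hv
  let f : (G → T) →ₗ[T] (Option G → T) := Fintype.linearCombination T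
    fun g => (g : T) • Pi.single none 1 - x • Pi.single (some g) 1
  let m : (Option G → T) →ₗ[T] A := Fintype.linearCombination T fun o => o.elim w v
  have hmf : m ∘ₗ f = 0 := by
    ext g
    simp only [LinearMap.comp_apply, LinearMap.coe_single, f, Fintype.linearCombination_apply_single,
      one_smul, map_sub, map_smul, m, Option.elim_none, Option.elim_some, LinearMap.zero_apply]
    rw [sub_eq_zero, Algebra.smul_def, Algebra.smul_def, ← hv g, mul_comm]
  obtain ⟨k, a, y, hya, haf⟩ := Module.Flat.exists_factorization_of_comp_eq_zero_of_free hmf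
  set c := a (Pi.single none 1)
  have hw' : w = y c := by
    have := LinearMap.congr_fun hya (Pi.single none 1)
    simpa [m, c] using this
  have hc : ∀ j, c j ∈ Ideal.span ({x} : Set T) := by
    intro j
    refine hP _ fun b hb => ?_
    rw [← hG] at hb
    induction hb using Submodule.span_induction with
    | mem g hg =>
      have h := congrArg (fun q => q j) (LinearMap.congr_fun haf (Pi.single ⟨g, hg⟩ 1))
      simp only [LinearMap.comp_apply, f, Fintype.linearCombination_apply_single, one_smul, map_sub,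
        map_smul, Finsupp.sub_apply, Finsupp.smul_apply, smul_eq_mul, LinearMap.zero_apply,
        Finsupp.coe_zero, Pi.zero_apply, sub_eq_zero] at h
      exact Ideal.mem_span_singleton'.mpr ⟨_, by rw [mul_comm]; exact h.symm⟩
    | zero => simp
    | add p q _ _ hp hq => rw [add_mul]; exact add_mem hp hq
    | smul r p _ hp => rw [smul_eq_mul, mul_assoc]; exact Ideal.mul_mem_left _ r hp
  choose d hd using fun j => Ideal.mem_span_singleton'.mp (hc j)
  have hc' : c = x • Finsupp.equivFunOnFinite.symm d := by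
    ext j
    simp [← hd j, mul_comm]
  rw [hw', hc', map_smul, Algebra.smul_def, mul_comm]
  exact Ideal.mem_span_singleton'.mpr ⟨_, rfl⟩

/-- Colon primes over normal rings are locally principal. -/
theorem princ_of_colon {R : Type*} [CommRing R] [IsDomain R] [IsNoetherianRing R]
    [IsIntegrallyClosed R] {K : Type*} [Field K] [Algebra R K] [IsFractionRing R K]
    (P : Ideal R) [P.IsPrime] (hP0 : P ≠ ⊥) (z : K)
    (hz : ∀ s ∉ P, ∀ b : R, algebraMap R K s * z ≠ algebraMap R K b)
    (hPz : ∀ a ∈ P, ∃ b : R, algebraMap R K a * z = algebraMap R K b) : Princ P := by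
  by_cases h : ∀ a ∈ P, ∀ b : R, algebraMap R K a * z = algebraMap R K b → b ∈ P
  · exfalso
    let N : Submodule R K := Submodule.map (Algebra.linearMap R K) P
    have hN : N ≠ ⊥ := fun h0 => hP0 ((Submodule.eq_bot_iff _).mpr fun a ha =>
      IsFractionRing.injective R K (by
        rw [map_zero]
        exact (Submodule.eq_bot_iff _).mp h0 _ ⟨a, ha, rfl⟩))
    have hint : IsIntegral R z := by
      refine isIntegral_of_smul_mem_submodule N hN (Submodule.FG.map _ (IsNoetherian.noetherian P)) z ?_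
      rintro _ ⟨a, ha, rfl⟩
      obtain ⟨b, hb⟩ := hPz a ha
      refine ⟨b, h a ha b hb, ?_⟩
      simpa [mul_comm] using hb.symm
    obtain ⟨b, hb⟩ := IsIntegrallyClosed.isIntegral_iff.mp hint
    exact hz 1 (fun h1 => Ideal.IsPrime.ne_top' ((Ideal.eq_top_iff_one P).mpr h1)) b
      (by rw [map_one, one_mul, hb])
  · push Not at h
    obtain ⟨a, ha, b, hab, hbP⟩ := h
    refine ⟨a, ha, fun y hy => ⟨b, hbP, Ideal.mem_span_singleton'.mpr ?_⟩⟩
    obtain ⟨c, hc⟩ := hPz y hy
    refine ⟨c, IsFractionRing.injective R K ?_⟩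
    rw [map_mul, map_mul, ← hab, ← hc]
    ring

/-- The order at a locally principal prime. -/
theorem exists_pow_eq {T : Type u} [CommRing T] [IsDomain T] [IsNoetherianRing T] (P : Ideal T)
    [P.IsPrime] {π : T} (hπ : π ∈ P) (hP : ∀ y ∈ P, ∃ s ∉ P, s * y ∈ Ideal.span ({π} : Set T))
    {x : T} (hx : x ≠ 0) : ∃ (e : ℕ) (s t : T), s ∉ P ∧ t ∉ P ∧ s * x = t * π ^ e := by
  classical
  let L := Localization.AtPrime P
  have hM : maximalIdeal L = Ideal.span {algebraMap T L π} := by
    refine le_antisymm ?_ ((Ideal.span_singleton_le_iff_mem _).mpr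
      ((IsLocalization.AtPrime.to_map_mem_maximal_iff L P π).mpr hπ))
    rw [← Localization.AtPrime.map_eq_maximalIdeal, Ideal.map_le_iff_le_comap]
    intro y hy
    obtain ⟨s, hs, hsy⟩ := hP y hy
    obtain ⟨c, hc⟩ := Ideal.mem_span_singleton'.mp hsy
    obtain ⟨u, hu⟩ := IsLocalization.map_units L (⟨s, hs⟩ : P.primeCompl)
    rw [Ideal.mem_comap, Ideal.mem_span_singleton']
    refine ⟨↑u⁻¹ * algebraMap T L c, ?_⟩
    rw [mul_assoc, ← map_mul, hc, map_mul, ← mul_assoc]
    change ↑u⁻¹ * algebraMap T L ↑(⟨s, hs⟩ : P.primeCompl) * _ = _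
    rw [← hu, Units.inv_mul, one_mul]
  have hne : algebraMap T L x ≠ 0 := fun h => hx
    (IsLocalization.injective L P.primeCompl_le_nonZeroDivisors (by rw [h, map_zero]))
  have hex : ∃ n : ℕ, algebraMap T L x ∉ maximalIdeal L ^ n := by
    by_contra h
    push Not at h
    exact hne (Ideal.mem_bot.mp ((Ideal.iInf_pow_eq_bot_of_isLocalRing (I := maximalIdeal L)
      (maximalIdeal.isMaximal _).ne_top).le (Ideal.mem_iInf.mpr h)))
  have h0 : Nat.find hex ≠ 0 := fun h => by
    have := Nat.find_spec hex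
    rw [h, pow_zero, Ideal.one_eq_top] at this
    exact this Submodule.mem_top
  obtain ⟨e, he⟩ := Nat.exists_eq_succ_of_ne_zero h0
  have hin : algebraMap T L x ∈ maximalIdeal L ^ e :=
    not_not.mp (Nat.find_min hex (by omega))
  have hout : algebraMap T L x ∉ maximalIdeal L ^ (e + 1) := by
    rw [← Nat.succ_eq_add_one, ← he]; exact Nat.find_spec hex
  rw [hM, Ideal.span_singleton_pow] at hin hout
  obtain ⟨c, hc⟩ := Ideal.mem_span_singleton'.mp hin
  obtain ⟨t, ⟨s, hs⟩, rfl⟩ := IsLocalization.exists_mk'_eq P.primeCompl c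
  refine ⟨e, s, t, hs, fun ht => hout ?_, IsLocalization.injective L
    P.primeCompl_le_nonZeroDivisors ?_⟩
  · have hmem : IsLocalization.mk' L t ⟨s, hs⟩ ∈ maximalIdeal L :=
      (IsLocalization.AtPrime.mk'_mem_maximal_iff L P t ⟨s, hs⟩).mpr ht
    rw [hM] at hmem
    obtain ⟨d, hd⟩ := Ideal.mem_span_singleton'.mp hmem
    exact Ideal.mem_span_singleton'.mpr ⟨d, by rw [← hc, ← hd, pow_succ]; ring⟩
  · rw [map_mul, map_mul, map_pow, ← hc, ← mul_assoc,
      IsLocalization.mk'_spec' L t (⟨s, hs⟩ : P.primeCompl)]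

/-- An element of `T` is regular on the completion. -/
theorem eq_zero_of_algebraMap_mul {T A : Type*} [CommRing T] [CommRing A] [Algebra T A]
    [Module.Flat T A] {π : T} (hπ : IsSMulRegular T π) {v : A} (h : algebraMap T A π * v = 0) :
    v = 0 := by
  have := Module.Flat.isTrivialRelation_of_sum_smul_eq_zero (R := T) (M := A)
    (f := fun _ : Fin 1 => π) (x := fun _ : Fin 1 => v)
    (by simpa [Algebra.smul_def] using h)
  obtain ⟨k, a, y, hy, ha⟩ := this
  have h0 : v = ∑ j, a 0 j • y j := hy 0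
  rw [h0]
  refine Finset.sum_eq_zero fun j _ => ?_
  have := ha j
  rw [Fin.sum_univ_one] at this
  rw [show a 0 j = 0 from hπ (by simpa using this), zero_smul]

/-- If all colon primes `P` of `(x)` are locally principal with `T ⧸ P` analytically unramified,
then `T` is analytically unramified. -/
theorem isReduced_completion_of_colonPrimes {T : Type u} [CommRing T] [IsDomain T] [IsLocalRing T]
    [IsNoetherianRing T] {x : T} (hx0 : x ≠ 0) (hxm : x ∈ maximalIdeal T)
    (h : ∀ (P : Ideal T) [P.IsPrime], IsColonPrime (Ideal.span ({x} : Set T)) P →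
      Princ P ∧ ∀ [IsLocalRing (T ⧸ P)],
        IsReduced (AdicCompletion (maximalIdeal (T ⧸ P)) (T ⧸ P))) :
    IsReduced (AdicCompletion (maximalIdeal T) T) := by
  set A := AdicCompletion (maximalIdeal T) T
  have := CohenStruct.isNoetherianRing_completion T
  let f := algebraMap T A
  set J : Ideal A := Ideal.span {f x} with hJ
  suffices key : ∀ z : A, IsNilpotent z → z ∈ J by
    refine ⟨fun z hz => ?_⟩
    have hpow : ∀ n : ℕ, ∃ w : A, IsNilpotent w ∧ z = f x ^ n * w := by
      intro n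
      induction n with
      | zero => exact ⟨z, hz, by rw [pow_zero, one_mul]⟩
      | succ n ih =>
        obtain ⟨w, hw, rfl⟩ := ih
        obtain ⟨w', hw'⟩ := Ideal.mem_span_singleton'.mp (key w hw)
        refine ⟨w', ?_, by rw [← hw', pow_succ]; ring⟩
        obtain ⟨k, hk⟩ := hw
        refine ⟨k, ?_⟩
        rw [← hw', mul_pow, ← map_pow, mul_comm] at hk
        exact eq_zero_of_algebraMap_mul (IsSMulRegular.of_ne_zero (pow_ne_zero k hx0)) hk
    have hmem : z ∈ ⨅ n : ℕ, maximalIdeal A ^ n := Ideal.mem_iInf.mpr fun n => by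
      obtain ⟨w, -, rfl⟩ := hpow n
      refine Ideal.mul_mem_right _ _ (Ideal.pow_mem_pow ?_ n)
      rw [AdicCompletion.maximalIdeal_eq_map]
      exact Ideal.mem_map_of_mem _ hxm
    exact Ideal.mem_bot.mp ((Ideal.iInf_pow_eq_bot_of_isLocalRing (I := maximalIdeal A)
      (maximalIdeal.isMaximal _).ne_top).le hmem)
  intro z hz
  by_contra hzJ
  obtain ⟨Q, r, hQ, hv, hQv⟩ := exists_colonPrime J z hzJ
  set v := r * z
  have hvn : IsNilpotent v := (Commute.all r z).isNilpotent_mul_left hz
  set P : Ideal T := Q.comap f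
  -- a colon prime above `P`
  obtain ⟨p, hp, hPp, hpcol⟩ : ∃ p : Ideal T, p.IsPrime ∧ P ≤ p ∧
      IsColonPrime (Ideal.span ({x} : Set T)) p := by
    by_contra hne
    refine hv (mem_span_of_flat x P (IsNoetherian.noetherian P) (fun w hw => ?_) v
      fun a ha => (hQv (f a)).mp ha)
    by_contra hwx
    obtain ⟨p, r', hp, hw', hcol⟩ := exists_colonPrime _ w hwx
    exact hne ⟨p, hp, fun a ha => (hcol a).mpr (by
      rw [mul_left_comm]; exact Ideal.mul_mem_left _ r' (hw a ha)), hp, r' * w, hcol⟩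
  obtain ⟨⟨π, hπp, hπ⟩, hred⟩ := h p hpcol
  obtain ⟨e, s, t, hs, ht, hst⟩ := exists_pow_eq p hπp hπ hx0
  have hxP : x ∈ P := (hQv _).mpr (Ideal.mul_mem_right _ _ (Ideal.mem_span_singleton_self _))
  have hP : P.IsPrime := Ideal.IsPrime.comap f
  have hπP : π ∈ P := by
    have h1 : t * π ^ e ∈ P := hst ▸ P.mul_mem_left s hxP
    exact hP.mem_of_pow_mem e ((hP.mem_or_mem h1).resolve_left fun h => ht (hPp h))
  have hpP : p = P := by
    refine le_antisymm (fun y hy => ?_) hPp
    obtain ⟨u, hu, huy⟩ := hπ y hy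
    have h1 : u * y ∈ P := (Ideal.span_singleton_le_iff_mem P).mpr hπP huy
    exact (hP.mem_or_mem h1).resolve_left fun h => hu (hPp h)
  subst hpP
  have hπ0 : π ≠ 0 := by
    rintro rfl
    obtain ⟨u, hu, hux⟩ := hπ x hxP
    rw [Ideal.mem_span_singleton', ] at hux
    obtain ⟨c, hc⟩ := hux
    rw [mul_zero, eq_comm, mul_eq_zero] at hc
    exact hc.elim (fun h => hu (h ▸ P.zero_mem)) hx0
  have hnot : ∀ {u : T}, u ∉ P → f u ∉ Q := fun hu h => hu h
  have hlocal : IsLocalRing (T ⧸ P) :=
    have := Ideal.Quotient.nontrivial_iff.mpr hP.ne_top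
    .of_surjective' (Ideal.Quotient.mk P) Ideal.Quotient.mk_surjective
  let K : ℕ → Set A := fun i => {y | ∃ u ∉ Q, ∃ w : A, u * y = f π ^ i * w}
  have hmul : ∀ {i : ℕ} {u y : A}, u ∉ Q → u * y ∈ K i → y ∈ K i := by
    rintro i u y hu ⟨u', hu', w, hw⟩
    exact ⟨u' * u, fun h => (hQ.mem_or_mem h).elim hu' hu, w, by rw [mul_assoc]; exact hw⟩
  have hmap : ∀ y ∈ P.map f, y ∈ K 1 := by
    intro y hy
    induction hy using Submodule.span_induction with
    | mem y hy =>
      obtain ⟨a, ha, rfl⟩ := hy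
      obtain ⟨u, hu, hua⟩ := hπ a ha
      obtain ⟨c, hc⟩ := Ideal.mem_span_singleton'.mp hua
      exact ⟨f u, hnot hu, f c, by rw [pow_one, ← map_mul, ← map_mul, ← hc, mul_comm]⟩
    | zero => exact ⟨1, fun h => hQ.ne_top ((Ideal.eq_top_iff_one Q).mpr h), 0, by simp⟩
    | add a b _ _ ha hb =>
      obtain ⟨u, hu, c, hc⟩ := ha
      obtain ⟨u', hu', c', hc'⟩ := hb
      refine ⟨u * u', fun h => (hQ.mem_or_mem h).elim hu hu', u' * c + u * c', ?_⟩
      calc u * u' * (a + b) = u' * (u * a) + u * (u' * b) := by ring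
        _ = _ := by rw [hc, hc']; ring
    | smul r a _ ha =>
      obtain ⟨u, hu, c, hc⟩ := ha
      exact ⟨u, hu, r * c, by rw [smul_eq_mul, mul_left_comm, hc]; ring⟩
  have hrad : ∀ y, y ^ 2 ∈ K 1 → y ∈ K 1 := by
    rintro y ⟨u, hu, w, hw⟩
    refine hmul hu (hmap _ (mem_map_of_sq_mem P hred (u * y) ?_))
    rw [show (u * y) ^ 2 = f π * (u * w) by
      calc (u * y) ^ 2 = u * (u * y ^ 2) := by ring
        _ = _ := by rw [hw, pow_one]; ring]
    exact Ideal.mul_mem_right _ _ (Ideal.mem_map_of_mem f hπP)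
  have hreg : ∀ (j : ℕ) {a b : A}, f π ^ j * a = f π ^ j * b → a = b := by
    intro j a b hab
    rw [← sub_eq_zero, ← mul_sub, ← map_pow] at hab
    exact sub_eq_zero.mp (eq_zero_of_algebraMap_mul
      (IsSMulRegular.of_ne_zero (pow_ne_zero j hπ0)) hab)
  have hve : v ∉ K e := by
    rintro ⟨u, hu, w, hw⟩
    have h1 : (u * f t) * v ∈ J := Ideal.mem_span_singleton'.mpr ⟨f s * w, by
      calc f s * w * f x = f (s * x) * w := by rw [map_mul]; ring
        _ = f t * (f π ^ e * w) := by rw [hst, map_mul, map_pow]; ring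
        _ = _ := by rw [← hw]; ring⟩
    exact (hQ.mem_or_mem ((hQv _).mpr h1)).elim hu (hnot ht)
  have hQK : ∀ q ∈ Q, q ∈ K 1 := by
    classical
    have hex : ∃ i, v ∉ K i := ⟨e, hve⟩
    have h0 : Nat.find hex ≠ 0 := fun h0 => by
      have := Nat.find_spec hex
      rw [h0] at this
      exact this ⟨1, fun h => hQ.ne_top ((Ideal.eq_top_iff_one Q).mpr h), v, by simp⟩
    obtain ⟨j, hj⟩ := Nat.exists_eq_succ_of_ne_zero h0
    obtain ⟨u, hu, v', hv'⟩ := not_not.mp (Nat.find_min hex (show j < Nat.find hex by omega))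
    have hje : j + 1 ≤ e := by
      have := Nat.find_le (h := hex) hve
      omega
    have hv'K : v' ∉ K 1 := by
      rintro ⟨u', hu', w, hw⟩
      apply Nat.find_spec hex
      rw [hj]
      refine ⟨u' * u, fun h => (hQ.mem_or_mem h).elim hu' hu, w, ?_⟩
      rw [mul_assoc, hv', mul_left_comm, hw, pow_one, pow_succ, mul_assoc]
    have hqv : ∀ q ∈ Q, q * v' ∈ K 1 := by
      intro q hq
      obtain ⟨w, hw⟩ := Ideal.mem_span_singleton'.mp ((hQv q).mp hq)
      refine hmul (hnot hs) ⟨1, fun h => hQ.ne_top ((Ideal.eq_top_iff_one Q).mpr h),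
        u * w * f t * f π ^ (e - j - 1), hreg j ?_⟩
      calc f π ^ j * (1 * (f s * (q * v'))) = f s * q * (f π ^ j * v') := by ring
        _ = f s * u * (q * v) := by rw [← hv']; ring
        _ = u * w * (f s * f x) := by rw [← hw]; ring
        _ = u * w * (f t * f π ^ e) := by rw [← map_mul, hst, map_mul, map_pow]
        _ = _ := by
          rw [show e = j + 1 + (e - j - 1) by omega]
          simp only [pow_add, pow_one]
          rw [show j + 1 + (e - j - 1) - j - 1 = e - j - 1 by omega]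
          ring
    intro q hq
    by_cases hv'Q : v' ∈ Q
    · exact absurd (hrad v' (by rw [pow_two]; exact hqv v' hv'Q)) hv'K
    · exact hmul hv'Q (by rw [mul_comm]; exact hqv q hq)
  refine hve ?_
  have : ∀ i, ∃ u ∉ Q, ∃ w, IsNilpotent w ∧ u * v = f π ^ i * w := by
    intro i
    induction i with
    | zero => exact ⟨1, fun h => hQ.ne_top ((Ideal.eq_top_iff_one Q).mpr h), v, hvn, by simp⟩
    | succ i ih =>
      obtain ⟨u, hu, w, hwn, hw⟩ := ih
      have hwQ : w ∈ Q := nilradical_le_prime Q (mem_nilradical.mpr hwn)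
      obtain ⟨u', hu', w', hw'⟩ := hQK w hwQ
      refine ⟨u' * u, fun h => (hQ.mem_or_mem h).elim hu' hu, w', ?_, ?_⟩
      · obtain ⟨k, hk⟩ := hwn
        refine ⟨k, hreg k ?_⟩
        rw [mul_zero, ← mul_pow, show f π * w' = u' * w by rw [hw', pow_one], mul_pow, hk, mul_zero]
      · rw [mul_assoc, hw, mul_left_comm, hw', pow_one, pow_succ, mul_assoc]
  obtain ⟨u, hu, w, -, hw⟩ := this e
  exact ⟨u, hu, w, hw⟩

end Groth.Agent.NagataUJ
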