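import Mathlib
import Groth.Prelude.Def_Found
import Groth.Agent.NagataLib.Universal
import Groth.Agent.DimTrdeg.Basic
import Groth.Agent.NagataUJ.Colon

/-!
# Nagata local domains are analytically unramified
-/

universe u

open IsLocalRing

namespace Groth.Agent.NagataUJ

/-- A finite algebra over a Nagata ring is Nagata. -/
theorem isNagata_of_finite {A B : Type u} [CommRing A] [CommRing B] [Algebra A B]
    [Module.Finite A B] (hA : CAlg.IsNagata A) : CAlg.IsNagata B := by
  have := hA.1
  refine ⟨IsNoetherianRing.of_finite A B, fun q _ => ?_⟩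
  let φ : A →+* B ⧸ q := (Ideal.Quotient.mk q).comp (algebraMap A B)
  have : (RingHom.ker φ).IsPrime := RingHom.ker_isPrime φ
  let : Algebra (A ⧸ RingHom.ker φ) (B ⧸ q) := (RingHom.kerLift φ).toAlgebra
  have : IsScalarTower A (A ⧸ RingHom.ker φ) (B ⧸ q) := .of_algebraMap_eq fun _ => rfl
  have : Module.Finite (A ⧸ RingHom.ker φ) (B ⧸ q) :=
    Module.Finite.of_restrictScalars_finite A _ _
  exact NagataLib.isN2_of_finite (RingHom.kerLift_injective φ) (hA.2 (RingHom.ker φ))

/-- A Nagata domain is N-2. -/
theorem isN2_of_isNagata {A : Type u} [CommRing A] [IsDomain A] (hA : CAlg.IsNagata A) :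
    CAlg.IsN2 A :=
  NagataLib.isN2_of_ringEquiv (RingEquiv.quotientBot A) (hA.2 ⊥)

theorem isReduced_completion_of_field {B : Type u} [CommRing B] [IsDomain B] [IsLocalRing B]
    (h : maximalIdeal B = ⊥) : IsReduced (AdicCompletion (maximalIdeal B) B) := by
  rw [h]
  exact isReduced_of_injective (AdicCompletion.ofAlgEquiv (⊥ : Ideal B)).symm
    (AdicCompletion.ofAlgEquiv (⊥ : Ideal B)).symm.injective

theorem le_of_add_one_le {a : WithBot ℕ∞} {n : ℕ} (h : a + 1 ≤ ((n + 1 : ℕ) : WithBot ℕ∞)) :
    a ≤ (n : WithBot ℕ∞) := by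
  induction a using WithBot.recBotCoe with
  | bot => exact bot_le
  | coe a =>
    induction a using ENat.recTopCoe with
    | top =>
      rw [← WithBot.coe_one, ← WithBot.coe_add, top_add] at h
      have h' : (⊤ : ℕ∞) ≤ ((n + 1 : ℕ) : ℕ∞) := by exact_mod_cast h
      exact absurd (top_le_iff.mp h') (ENat.natCast_ne_top (n + 1))
    | coe a =>
      have : a + 1 ≤ n + 1 := by exact_mod_cast h
      exact_mod_cast Nat.le_of_succ_le_succ this

/-- The inductive step on a normal ring. -/
theorem isReduced_completion_of_normal {B : Type u} [CommRing B] [IsDomain B] [IsLocalRing B]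
    [IsIntegrallyClosed B] (hB : CAlg.IsNagata B) (n : ℕ) (hdB : ringKrullDim B ≤ n)
    (ih : ∀ m < n, ∀ (T : Type u) [CommRing T] [IsDomain T] [IsLocalRing T],
      CAlg.IsNagata T → ringKrullDim T ≤ m → IsReduced (AdicCompletion (maximalIdeal T) T)) :
    IsReduced (AdicCompletion (maximalIdeal B) B) := by
  have := hB.1
  by_cases hm : maximalIdeal B = ⊥
  · exact isReduced_completion_of_field hm
  obtain ⟨x, hxm, hx0⟩ := (Submodule.ne_bot_iff _).mp hm
  refine isReduced_completion_of_colonPrimes hx0 hxm fun P hP hcol => ?_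
  obtain ⟨-, w, hw⟩ := hcol
  have hxP : x ∈ P := (hw x).mpr (Ideal.mul_mem_right _ _ (Ideal.mem_span_singleton_self x))
  let L := FractionRing B
  have hxL : algebraMap B L x ≠ 0 := (map_ne_zero_iff _ (IsFractionRing.injective B L)).mpr hx0
  refine ⟨princ_of_colon P ((Submodule.ne_bot_iff _).mpr ⟨x, hxP, hx0⟩)
    (algebraMap B L w / algebraMap B L x) (fun s hs b hb => hs ((hw s).mpr ?_)) (fun a ha => ?_), ?_⟩
  · rw [← mul_div_assoc, div_eq_iff hxL, ← map_mul, ← map_mul] at hb
    exact Ideal.mem_span_singleton'.mpr ⟨b, (IsFractionRing.injective B L hb).symm⟩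
  · obtain ⟨b, hb⟩ := Ideal.mem_span_singleton'.mp ((hw a).mp ha)
    exact ⟨b, by rw [← mul_div_assoc, div_eq_iff hxL, ← map_mul, ← map_mul, hb]⟩
  · intro _
    have hq : CAlg.IsNagata (B ⧸ P) := isNagata_of_finite hB
    have h1 : ringKrullDim (B ⧸ P) + 1 ≤ (n : WithBot ℕ∞) := by
      refine le_trans (add_le_add ?_ le_rfl) ((ringKrullDim_quotient_succ_le_of_nonZeroDivisor
        (mem_nonZeroDivisors_of_ne_zero hx0)).trans hdB)
      exact ringKrullDim_le_of_surjective
        (Ideal.Quotient.factor ((Ideal.span_singleton_le_iff_mem P).mpr hxP))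
        (Ideal.Quotient.factor_surjective _)
    rcases n with _ | n
    · have h2 := ringKrullDim_nonneg_of_nontrivial (R := B ⧸ P)
      exfalso
      revert h1 h2
      generalize ringKrullDim (B ⧸ P) = d
      intro h1 h2
      induction d using WithBot.recBotCoe with
      | bot => simp at h2
      | coe d => norm_cast at h1; simp at h1
    · exact ih n (Nat.lt_succ_self n) (B ⧸ P) hq (le_of_add_one_le h1)

/-- Reduction to the localisations of a finite normal extension. -/
theorem isReduced_completion_step {T T' : Type u} [CommRing T] [IsDomain T] [IsLocalRing T]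
    [CommRing T'] [IsDomain T'] [IsIntegrallyClosed T'] [Algebra T T'] [Module.Finite T T']
    (hinj : Function.Injective (algebraMap T T')) (hT : CAlg.IsNagata T) (n : ℕ)
    (hdim : ringKrullDim T ≤ n)
    (ih : ∀ m < n, ∀ (T : Type u) [CommRing T] [IsDomain T] [IsLocalRing T],
      CAlg.IsNagata T → ringKrullDim T ≤ m → IsReduced (AdicCompletion (maximalIdeal T) T)) :
    IsReduced (AdicCompletion (maximalIdeal T) T) := by
  have := hT.1
  have hT' : CAlg.IsNagata T' := isNagata_of_finite hT
  refine isReduced_completion_of_finite hinj fun M hM => ?_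
  let B := Localization.AtPrime M
  have : IsIntegrallyClosed B :=
    isIntegrallyClosed_of_isLocalization B M.primeCompl M.primeCompl_le_nonZeroDivisors
  refine isReduced_completion_of_normal
    (NagataLib.isNagata_localization hT' M.primeCompl B) n ?_ ih
  rw [IsLocalization.AtPrime.ringKrullDim_eq_height M B]
  refine le_trans M.height_le_ringKrullDim_of_isPrime ?_
  rwa [DimTrdeg.ringKrullDim_eq_of_isIntegral T T' hinj]

/-- **Nagata local domains are analytically unramified.** -/
theorem isReduced_completion_of_isNagata {R : Type u} [CommRing R] [IsDomain R] [IsLocalRing R]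
    (hR : CAlg.IsNagata R) : IsReduced (AdicCompletion (maximalIdeal R) R) := by
  have := hR.1
  suffices key : ∀ (n : ℕ) (T : Type u) [CommRing T] [IsDomain T] [IsLocalRing T],
      CAlg.IsNagata T → ringKrullDim T ≤ n → IsReduced (AdicCompletion (maximalIdeal T) T) by
    obtain ⟨n, hn⟩ : ∃ n : ℕ, ringKrullDim R ≤ n := by
      have h1 := ringKrullDim_lt_top (R := R)
      have h2 := ringKrullDim_nonneg_of_nontrivial (R := R)
      revert h1 h2
      generalize ringKrullDim R = d
      intro h1 h2
      induction d using WithBot.recBotCoe with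
      | bot => simp at h2
      | coe d =>
        induction d using ENat.recTopCoe with
        | top => simp at h1
        | coe d => exact ⟨d, le_rfl⟩
    exact key n R hR hn
  intro n
  induction n using Nat.strong_induction_on with | _ n ih => ?_
  intro T _ _ _ hT hdim
  have := hT.1
  let K := FractionRing T
  let T' := integralClosure T K
  have : Module.Finite T T' :=
    (NagataLib.isN1_iff K).mp (NagataLib.isN1_of_isN2 (isN2_of_isNagata hT))
  have hinj : Function.Injective (algebraMap T T') := fun a b h =>
    IsFractionRing.injective T K (congrArg Subtype.val h)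
  have : IsIntegrallyClosed T' := integralClosure.isIntegrallyClosedOfFiniteExtension K
  exact isReduced_completion_step (T' := T') hinj hT n hdim ih

end Groth.Agent.NagataUJ
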