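import Mathlib
import Groth.Prelude.Def_Found
import Groth.Agent.NagataUJ.Local

/-!
# Monogenic birational extensions of normal Nagata domains are analytically unramified

`isReduced_atPrime_of_mem`: at a prime containing the generator.
`isReduced_atPrime_of_residue`: at a prime where the generator is integral modulo the prime.
-/

universe u

open IsLocalRing

namespace Groth.Agent.NagataUJ

/-- A ring of fractions of images of a Nagata ring is Nagata. -/
theorem isNagata_of_fractions {A B : Type u} [CommRing A] [CommRing B] (hA : CAlg.IsNagata A)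
    (φ : A →+* B) (M : Submonoid A) (hu : ∀ m ∈ M, IsUnit (φ m))
    (hs : ∀ b : B, ∃ a : A, ∃ m ∈ M, b * φ m = φ a) : CAlg.IsNagata B := by
  let L := Localization M
  let ψ : L →+* B := IsLocalization.lift (M := M) (g := φ) fun y => hu y y.2
  have hψ : Function.Surjective ψ := fun b => by
    obtain ⟨a, m, hm, e⟩ := hs b
    refine ⟨IsLocalization.mk' L a (⟨m, hm⟩ : M), ?_⟩
    rw [IsLocalization.lift_mk'_spec, mul_comm]
    exact e.symm
  let := ψ.toAlgebra
  have : Module.Finite L B := Module.Finite.of_surjective (Algebra.linearMap L B) hψ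
  exact isNagata_of_finite (A := L) (NagataLib.isNagata_localization hA M L)

/-- Analytic unramifiedness is invariant under isomorphisms. -/
theorem isReduced_completion_of_ringEquiv {R B : Type u} [CommRing R] [IsLocalRing R]
    [IsNoetherianRing R] [CommRing B] [IsLocalRing B] (e : R ≃+* B)
    (h : IsReduced (AdicCompletion (maximalIdeal B) B)) :
    IsReduced (AdicCompletion (maximalIdeal R) R) := by
  have hm : (maximalIdeal R).map (e : R →+* B) = maximalIdeal B :=
    map_maximalIdeal_of_surjective _ e.surjective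
  obtain ⟨ψ, hψ⟩ := exists_completionMap (e : R →+* B) hm.le
  refine ⟨fun z hz => AdicCompletion.ext_evalₐ fun n => ?_⟩
  obtain ⟨a, ha, -⟩ := exists_seq z
  have h1 := hψ n z (a n) (ha n)
  rw [h.eq_zero _ (hz.map ψ), map_zero, eq_comm, Ideal.Quotient.eq_zero_iff_mem, ← hm,
    ← Ideal.map_pow] at h1
  rw [map_zero, ha n, Ideal.Quotient.eq_zero_iff_mem]
  obtain ⟨b, hb, hbe⟩ := (Ideal.mem_map_iff_of_surjective _ e.surjective).mp h1
  rwa [← e.injective hbe]

section

variable {R T K : Type u} [CommRing R] [IsDomain R] [IsIntegrallyClosed R] [CommRing T]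
  [Algebra R T] [Field K] [Algebra R K] [IsFractionRing R K]

theorem exists_eq_add_mul {x : T} (hgen : Algebra.adjoin R ({x} : Set T) = ⊤) (t : T) :
    ∃ (r : R) (t' : T), t = algebraMap R T r + x * t' := by
  have ht : t ∈ Algebra.adjoin R ({x} : Set T) := hgen ▸ Algebra.mem_top
  rw [Algebra.adjoin_singleton_eq_range_aeval] at ht
  obtain ⟨P, rfl⟩ := ht
  refine ⟨P.coeff 0, Polynomial.aeval x P.divX, ?_⟩
  have e := congrArg (Polynomial.aeval x) (Polynomial.X_mul_divX_add P)
  rw [map_add, map_mul, Polynomial.aeval_X, Polynomial.aeval_C] at e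
  change Polynomial.aeval x P = _
  rw [← e, add_comm]

/-- `R ∩ x R[x] = R ∩ x R`. -/
theorem exists_eq_mul_of_eq_mul (g : T →ₐ[R] K) {x : T}
    (hgen : Algebra.adjoin R ({x} : Set T) = ⊤) {r : R} {t : T} (h : algebraMap R T r = x * t) :
    ∃ c : R, algebraMap R K r = g x * algebraMap R K c := by
  have ht : t ∈ Algebra.adjoin R ({x} : Set T) := hgen ▸ Algebra.mem_top
  rw [Algebra.adjoin_singleton_eq_range_aeval] at ht
  obtain ⟨P, rfl⟩ := ht
  replace h : algebraMap R K r = g x * Polynomial.aeval (g x) P := by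
    have := congrArg g h
    simpa [Polynomial.aeval_algHom_apply] using this
  suffices key : ∀ (n : ℕ) (P : Polynomial R), P.natDegree ≤ n →
      algebraMap R K r = g x * Polynomial.aeval (g x) P →
        ∃ c : R, algebraMap R K r = g x * algebraMap R K c from key _ P le_rfl h
  intro n
  induction n with
  | zero =>
    intro P hP h
    rw [Polynomial.eq_C_of_natDegree_le_zero hP, Polynomial.aeval_C] at h
    exact ⟨_, h⟩
  | succ n ih =>
    intro P hP h
    by_cases hn : P.natDegree ≤ n
    · exact ih P hn h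
    have hdeg : P.natDegree = n + 1 := by omega
    let F : Polynomial R := Polynomial.X * P - Polynomial.C r
    have hP0 : P ≠ 0 := fun h0 => by simp [h0] at hdeg
    have hFdeg : F.natDegree = n + 2 := by
      rw [Polynomial.natDegree_sub_C, Polynomial.natDegree_X_mul hP0, hdeg]
    have hFroot : Polynomial.aeval (g x) F = 0 := by simp [F, h]
    have hlc : F.leadingCoeff = P.coeff (n + 1) := by
      rw [Polynomial.leadingCoeff, hFdeg]
      simp [F, Polynomial.coeff_sub, Polynomial.coeff_X_mul]
    obtain ⟨d, hd⟩ := IsIntegrallyClosed.isIntegral_iff.mp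
      (RingHom.isIntegralElem_leadingCoeff_mul (algebraMap R K) F (g x) hFroot)
    rw [hlc] at hd
    refine ih (P - Polynomial.C (P.coeff (n + 1)) * Polynomial.X ^ (n + 1)
      + Polynomial.C d * Polynomial.X ^ n) ?_ ?_
    · rw [Polynomial.natDegree_le_iff_coeff_eq_zero]
      intro m hm
      simp only [Polynomial.coeff_add, Polynomial.coeff_sub, Polynomial.coeff_C_mul_X_pow]
      rw [if_neg (by omega : ¬ m = n), add_zero]
      by_cases hm1 : m = n + 1
      · simp [hm1]
      · rw [if_neg hm1, sub_zero]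
        exact Polynomial.coeff_eq_zero_of_natDegree_lt (by omega)
    · rw [h]
      congr 1
      rw [map_add, map_sub, map_mul, map_mul, map_pow, map_pow, Polynomial.aeval_X,
        Polynomial.aeval_C, Polynomial.aeval_C, hd, pow_succ]
      ring

/-- Analytic unramifiedness at a prime containing the generator. -/
theorem isReduced_atPrime_of_mem [IsDomain T] (hR : CAlg.IsNagata R) (g : T →ₐ[R] K)
    (hg : Function.Injective g) (x : T) (hgen : Algebra.adjoin R ({x} : Set T) = ⊤)
    (M : Ideal T) [M.IsPrime] (hxM : x ∈ M) :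
    IsReduced (AdicCompletion (maximalIdeal (Localization.AtPrime M))
      (Localization.AtPrime M)) := by
  classical
  have := hR.1
  have : Algebra.FiniteType R T :=
    ⟨⟨{x}, by rw [Finset.coe_singleton]; exact hgen⟩⟩
  have : IsNoetherianRing T := Algebra.FiniteType.isNoetherianRing R T
  by_cases hx0 : x = 0
  · have hsurj : Function.Surjective (algebraMap R T) := fun t => by
      obtain ⟨r, t', rfl⟩ := exists_eq_add_mul hgen t
      exact ⟨r, by rw [hx0, zero_mul, add_zero]⟩
    have : Module.Finite R T := Module.Finite.of_surjective (Algebra.linearMap R T) hsurj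
    exact isReduced_completion_of_isNagata (NagataLib.isNagata_localization (isNagata_of_finite hR)
      M.primeCompl (Localization.AtPrime M))
  let TM := Localization.AtPrime M
  let i := algebraMap T TM
  have hi : Function.Injective i := IsLocalization.injective TM M.primeCompl_le_nonZeroDivisors
  have hgx : g x ≠ 0 := (map_ne_zero_iff g hg).mpr hx0
  refine isReduced_completion_of_colonPrimes (x := i x) ((map_ne_zero_iff i hi).mpr hx0)
    ((IsLocalization.AtPrime.to_map_mem_maximal_iff TM M x).mpr hxM) fun P hP hcol => ?_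
  obtain ⟨-, w, hw⟩ := hcol
  obtain ⟨⟨w0, u0, hu0⟩, hwu⟩ := IsLocalization.surj M.primeCompl w
  obtain ⟨r0, t0, hr0⟩ := exists_eq_add_mul hgen w0
  have hu0' : IsUnit (i u0) := IsLocalization.map_units TM (⟨u0, hu0⟩ : M.primeCompl)
  have hw' : ∀ s : TM, s ∈ P ↔ s * i (algebraMap R T r0) ∈ Ideal.span {i x} := fun s => by
    rw [hw s, ← Ideal.mul_unit_mem_iff_mem _ hu0', mul_assoc]
    change s * (w * algebraMap T TM u0) ∈ _ ↔ _
    rw [show w * algebraMap T TM u0 = i w0 from hwu, hr0, map_add, map_mul, mul_add]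
    exact Ideal.add_mem_iff_left _
      (Ideal.mul_mem_left _ _ (Ideal.mul_mem_right _ _ (Ideal.mem_span_singleton_self _)))
  have hxP : i x ∈ P := (hw' _).mpr (Ideal.mul_mem_right _ _ (Ideal.mem_span_singleton_self _))
  let q : Ideal T := P.comap i
  have hqM : q ≤ M := fun t ht =>
    (IsLocalization.AtPrime.to_map_mem_maximal_iff TM M t).mp
      (le_maximalIdeal hP.ne_top ht)
  let p : Ideal R := q.comap (algebraMap R T)
  have : p.IsPrime := Ideal.IsPrime.comap _
  obtain ⟨⟨a, b⟩, hab⟩ := IsLocalization.surj (nonZeroDivisors R) (g x)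
  have hab' : algebraMap R T a = x * algebraMap R T b := hg (by rw [map_mul, AlgHom.commutes, AlgHom.commutes]; exact hab.symm)
  have ha0 : a ≠ 0 := fun h => by
    rw [h, map_zero, eq_comm, mul_eq_zero] at hab'
    refine hab'.elim hx0 fun h2 => nonZeroDivisors.coe_ne_zero b ?_
    have := congrArg g h2
    rw [AlgHom.commutes, map_zero] at this
    exact IsFractionRing.injective R K (by rw [this, map_zero])
  have hap : a ∈ p := by
    change i (algebraMap R T a) ∈ P
    rw [hab', map_mul]
    exact Ideal.mul_mem_right _ _ hxP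
  -- one denominator for all of `p`
  obtain ⟨G, hG⟩ := IsNoetherian.noetherian p
  have hclear : ∀ a ∈ p, ∃ u : R, algebraMap R T u ∉ M ∧ ∃ c : R,
      algebraMap R K (u * a * r0) = g x * algebraMap R K c := by
    intro a ha
    obtain ⟨c, hc⟩ := Ideal.mem_span_singleton'.mp ((hw' _).mp ha)
    obtain ⟨⟨c0, u, hu⟩, hcu⟩ := IsLocalization.surj M.primeCompl c
    obtain ⟨ru, tu, hru⟩ := exists_eq_add_mul hgen u
    have he : algebraMap R T a * algebraMap R T r0 * u = x * c0 := hi (by
      rw [map_mul, map_mul, ← hc, map_mul, ← show c * algebraMap T TM u = i c0 from hcu]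
      ring)
    refine ⟨ru, fun h => hu (hru ▸ add_mem h (Ideal.mul_mem_right _ _ hxM)),
      exists_eq_mul_of_eq_mul g hgen (t := c0 - algebraMap R T a * algebraMap R T r0 * tu) ?_⟩
    rw [mul_sub, ← he, hru, map_mul, map_mul]
    ring
  choose! u hu c hc using hclear
  let v : R := ∏ y ∈ G, u y
  have hvM : algebraMap R T v ∉ M := by
    rw [map_prod, Ideal.IsPrime.prod_mem_iff]
    rintro ⟨y, hy, hyM⟩
    exact hu y (hG ▸ Ideal.subset_span hy) hyM
  have hz2 : ∀ y ∈ p, ∃ d : R, algebraMap R K y * (algebraMap R K (v * r0) / g x) =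
      algebraMap R K d := by
    intro y hy
    rw [← hG] at hy
    induction hy using Submodule.span_induction with
    | mem y hy =>
      refine ⟨(∏ k ∈ G.erase y, u k) * c y, ?_⟩
      rw [← mul_div_assoc, div_eq_iff hgx, ← map_mul,
        show y * (v * r0) = (∏ k ∈ G.erase y, u k) * (u y * y * r0) by
          simp only [v, ← Finset.prod_erase_mul G u hy]; ring,
        map_mul, hc y (hG ▸ Ideal.subset_span hy), map_mul]
      ring
    | zero => exact ⟨0, by simp⟩
    | add y y' _ _ h h' =>
      obtain ⟨d, hd⟩ := h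
      obtain ⟨d', hd'⟩ := h'
      exact ⟨d + d', by rw [map_add, add_mul, hd, hd', map_add]⟩
    | smul k y _ h =>
      obtain ⟨d, hd⟩ := h
      exact ⟨k * d, by rw [smul_eq_mul, map_mul, mul_assoc, hd, map_mul]⟩
  have hz1 : ∀ s ∉ p, ∀ d : R, algebraMap R K s * (algebraMap R K (v * r0) / g x) ≠
      algebraMap R K d := by
    intro s hs d hd
    apply hs
    rw [← mul_div_assoc, div_eq_iff hgx, ← map_mul] at hd
    have he : algebraMap R T (s * (v * r0)) = algebraMap R T d * x := hg (by
      rw [map_mul g, AlgHom.commutes, AlgHom.commutes]; exact hd)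
    change i (algebraMap R T s) ∈ P
    have h1 : i (algebraMap R T (s * v)) ∈ P := (hw' _).mpr (Ideal.mem_span_singleton'.mpr
      ⟨i (algebraMap R T d), by rw [← map_mul, ← he, ← map_mul, ← map_mul, mul_assoc]⟩)
    rw [map_mul, map_mul] at h1
    exact (hP.mem_or_mem h1).resolve_right fun h => hvM (hqM h)
  obtain ⟨π, hπ, hπp⟩ := princ_of_colon p ((Submodule.ne_bot_iff _).mpr ⟨a, hap, ha0⟩)
    (algebraMap R K (v * r0) / g x) hz1 hz2
  have hπ' : ∀ y ∈ p, ∃ s ∉ p, ∃ t : T,
      algebraMap R T s * algebraMap R T y = algebraMap R T π * t := fun y hy => by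
    obtain ⟨s, hs, hsy⟩ := hπp y hy
    obtain ⟨k, hk⟩ := Ideal.mem_span_singleton'.mp hsy
    exact ⟨s, hs, algebraMap R T k, by rw [← map_mul, ← map_mul, ← hk, mul_comm]⟩
  -- `x` is divisible by `π` at `q`
  have hxπ : ∃ s ∉ p, ∃ t : T, algebraMap R T s * x = algebraMap R T π * t := by
    obtain ⟨j, s, t, hs, ht, hb⟩ := exists_pow_eq p hπ hπp (nonZeroDivisors.coe_ne_zero b)
    obtain ⟨k, s', t', hs', ht', ha⟩ := exists_pow_eq p hπ hπp ha0
    have hne : π ≠ 0 := by
      rintro rfl
      obtain ⟨s'', hs'', hsa⟩ := hπp a hap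
      obtain ⟨d, hd⟩ := Ideal.mem_span_singleton'.mp hsa
      rw [mul_zero, eq_comm, mul_eq_zero] at hd
      exact hd.elim (fun h => hs'' (h ▸ p.zero_mem)) ha0
    have hrel : algebraMap R T (s' * t * π ^ j) * x = algebraMap R T (s * t' * π ^ k) := by
      rw [show s' * t * π ^ j = s' * (t * π ^ j) by ring, ← hb,
        show s * t' * π ^ k = s * (t' * π ^ k) by ring, ← ha, map_mul, map_mul, map_mul, map_mul,
        hab']
      ring
    have hπT : algebraMap R T π ≠ 0 := fun h => hne (IsFractionRing.injective R K (by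
      rw [← g.commutes, h, map_zero, map_zero]))
    rcases le_or_gt k j with hkj | hkj
    · exfalso
      obtain ⟨l, rfl⟩ := Nat.exists_eq_add_of_le hkj
      have hc : algebraMap R T (s' * t * π ^ l) * x = algebraMap R T (s * t') :=
        mul_left_cancel₀ (pow_ne_zero k hπT) (by
          rw [← map_pow, ← mul_assoc, ← map_mul, ← map_mul,
            show π ^ k * (s' * t * π ^ l) = s' * t * π ^ (k + l) by rw [pow_add]; ring, hrel]
          congr 1; ring)
      have h1 : s * t' ∈ p := by
        change i (algebraMap R T (s * t')) ∈ P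
        rw [← hc, map_mul]
        exact Ideal.mul_mem_left _ _ hxP
      exact (Ideal.IsPrime.mem_or_mem ‹p.IsPrime› h1).elim hs ht'
    · obtain ⟨l, rfl⟩ := Nat.exists_eq_add_of_le hkj
      refine ⟨s' * t, fun h => (Ideal.IsPrime.mem_or_mem ‹p.IsPrime› h).elim hs' ht,
        algebraMap R T (s * t' * π ^ l), mul_left_cancel₀ (pow_ne_zero j hπT) ?_⟩
      rw [← map_pow, ← mul_assoc, ← map_mul, ← map_mul, ← map_mul, mul_comm (π ^ j) (s' * t), hrel]
      congr 1
      rw [pow_add, pow_succ]; ring
  refine ⟨⟨i (algebraMap R T π), hπ, fun Y hY => ?_⟩, ?_⟩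
  · obtain ⟨⟨y, uy, huy⟩, hyu⟩ := IsLocalization.surj M.primeCompl Y
    obtain ⟨r, t, hrt⟩ := exists_eq_add_mul hgen y
    have hy : i y ∈ P := by
      rw [← show Y * algebraMap T TM uy = i y from hyu]
      exact Ideal.mul_mem_right _ _ hY
    have hr : r ∈ p := by
      change i (algebraMap R T r) ∈ P
      rw [hrt, map_add, map_mul] at hy
      exact (Ideal.add_mem_iff_left _ (Ideal.mul_mem_right _ _ hxP)).mp hy
    obtain ⟨s, hs, t₁, ht₁⟩ := hπ' r hr
    obtain ⟨s', hs', t₂, ht₂⟩ := hxπ
    refine ⟨i (algebraMap R T (s * s')) * i uy, fun h => ?_, Ideal.mem_span_singleton'.mpr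
      ⟨i (algebraMap R T s' * t₁ + algebraMap R T s * t * t₂), ?_⟩⟩
    · rcases hP.mem_or_mem h with h | h
      · exact (Ideal.IsPrime.mem_or_mem ‹p.IsPrime› (show s * s' ∈ p from h)).elim hs hs'
      · exact huy (hqM h)
    · rw [show ∀ z : TM, z * i uy * Y = z * (Y * i uy) from fun z => by ring,
        show Y * i uy = i y from hyu, ← map_mul, ← map_mul, hrt]
      congr 1
      rw [map_mul]
      linear_combination (-(algebraMap R T s')) * ht₁ - algebraMap R T s * t * ht₂
  · intro _
    refine isReduced_completion_of_isNagata (isNagata_of_fractions hR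
      ((Ideal.Quotient.mk P).comp (i.comp (algebraMap R T)))
      (M.comap (algebraMap R T)).primeCompl (fun r hr => ?_) fun Y => ?_)
    · exact (IsLocalization.map_units TM (⟨algebraMap R T r, hr⟩ : M.primeCompl)).map
        (Ideal.Quotient.mk P)
    · obtain ⟨Y, rfl⟩ := Ideal.Quotient.mk_surjective Y
      obtain ⟨⟨y, uy, huy⟩, hyu⟩ := IsLocalization.surj M.primeCompl Y
      obtain ⟨r, t, hrt⟩ := exists_eq_add_mul hgen y
      obtain ⟨ru, tu, hru⟩ := exists_eq_add_mul hgen uy
      refine ⟨r, ru, fun h => huy (hru ▸ add_mem h (Ideal.mul_mem_right _ _ hxM)), ?_⟩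
      rw [RingHom.comp_apply, RingHom.comp_apply, RingHom.comp_apply, RingHom.comp_apply,
        ← map_mul, Ideal.Quotient.eq]
      have e := show Y * algebraMap T TM uy = i y from hyu
      rw [hrt, hru, map_add, map_add, map_mul, map_mul] at e
      rw [show Y * i (algebraMap R T ru) - i (algebraMap R T r) = i x * i t - Y * (i x * i tu) by
        linear_combination e]
      exact sub_mem (Ideal.mul_mem_right _ _ hxP) (Ideal.mul_mem_left _ _ (Ideal.mul_mem_right _ _ hxP))

end

end Groth.Agent.NagataUJ
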