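import Mathlib
import Groth.Prelude.Def_Found
import Groth.Agent.NagataUJ.AtPrime
import Groth.Agent.NagataLib.Basic

/-!
# Monogenic birational extensions: arbitrary maximal ideals
-/

universe u

open IsLocalRing Polynomial

namespace Groth.Agent.NagataUJ

/-- Localising a localisation at a prime. -/
theorem isReduced_completion_transfer {A A' : Type u} [CommRing A] [IsNoetherianRing A]
    [CommRing A'] [Algebra A A'] (S : Submonoid A) [IsLocalization S A'] (Q : Ideal A') [Q.IsPrime]
    (M : Ideal A) [M.IsPrime] (hM : Q.comap (algebraMap A A') = M) :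
    IsReduced (AdicCompletion (maximalIdeal (Localization.AtPrime M)) (Localization.AtPrime M)) ↔
      IsReduced (AdicCompletion (maximalIdeal (Localization.AtPrime Q)) (Localization.AtPrime Q)) := by
  have : IsNoetherianRing A' := IsLocalization.isNoetherianRing S A' ‹_›
  subst hM
  let : Algebra A (Localization.AtPrime Q) := inferInstance
  have : IsLocalization.AtPrime (Localization.AtPrime Q) (Q.comap (algebraMap A A')) :=
    IsLocalization.isLocalization_isLocalization_atPrime_isLocalization S _ Q
  let e := (IsLocalization.algEquiv (Q.comap (algebraMap A A')).primeCompl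
    (Localization.AtPrime (Q.comap (algebraMap A A'))) (Localization.AtPrime Q)).toRingEquiv
  exact ⟨isReduced_completion_of_ringEquiv e.symm, isReduced_completion_of_ringEquiv e⟩

/-- The core: the finite extension `U` is given. -/
theorem isReduced_atPrime_of_cover {T U : Type u} [CommRing T] [IsDomain T] [IsNoetherianRing T]
    [CommRing U] [IsDomain U] [Algebra T U] [Module.Finite T U]
    (hinj : Function.Injective (algebraMap T U)) (M : Ideal T) [M.IsMaximal]
    (hU : ∀ (N : Ideal U) [N.IsMaximal], N.comap (algebraMap T U) = M →
      IsReduced (AdicCompletion (maximalIdeal (Localization.AtPrime N)) (Localization.AtPrime N))) :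
    IsReduced (AdicCompletion (maximalIdeal (Localization.AtPrime M))
      (Localization.AtPrime M)) := by
  have : IsNoetherianRing U := IsNoetherianRing.of_finite T U
  let TM := Localization.AtPrime M
  let S' := Algebra.algebraMapSubmonoid U M.primeCompl
  let B := Localization S'
  let : Algebra TM B := localizationAlgebra M.primeCompl U
  have : IsScalarTower T TM B := isScalarTower_localizationAlgebra M.primeCompl U
  have : Module.Finite TM B := Module.Finite.of_isLocalization T U M.primeCompl
  refine isReduced_completion_of_finite (R := TM) (B := B)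
    (localizationAlgebra_injective TM B hinj) fun Q hQ => ?_
  have hQM : (Q.comap (algebraMap U B)).comap (algebraMap T U) = M := by
    have h1 : (Q.comap (algebraMap TM B)) = maximalIdeal TM :=
      eq_maximalIdeal (Ideal.isMaximal_comap_of_isIntegral_of_isMaximal Q)
    rw [Ideal.comap_comap, ← IsScalarTower.algebraMap_eq, IsScalarTower.algebraMap_eq T TM B,
      ← Ideal.comap_comap, h1]
    exact IsLocalization.AtPrime.under_maximalIdeal TM M
  have : (Q.comap (algebraMap U B)).IsMaximal :=
    Ideal.isMaximal_of_isIntegral_of_isMaximal_comap _ (hQM.symm ▸ ‹M.IsMaximal›)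
  exact (isReduced_completion_transfer S' Q (Q.comap (algebraMap U B)) rfl).mp (hU _ hQM)

/-- Analytic unramifiedness at a maximal ideal where the generator is integral modulo it. -/
theorem isReduced_atPrime_of_residue {R T K : Type u} [CommRing R] [IsDomain R]
    [IsIntegrallyClosed R] [CommRing T] [IsDomain T] [Algebra R T] [Field K] [Algebra R K]
    [IsFractionRing R K] (hR : CAlg.IsNagata R) (g : T →ₐ[R] K) (hg : Function.Injective g)
    (x : T) (hgen : Algebra.adjoin R ({x} : Set T) = ⊤) (M : Ideal T) [M.IsMaximal]
    (f : R[X]) (hf : f.Monic) (hfx : aeval x f ∈ M) :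
    IsReduced (AdicCompletion (maximalIdeal (Localization.AtPrime M))
      (Localization.AtPrime M)) := by
  classical
  have := hR.1
  have : Algebra.FiniteType R T := ⟨⟨{x}, by rw [Finset.coe_singleton]; exact hgen⟩⟩
  have : IsNoetherianRing T := Algebra.FiniteType.isNoetherianRing R T
  let L := SplittingField (f.map (algebraMap R K))
  let R' := integralClosure R L
  have : Module.Finite R R' :=
    NagataLib.finite_integralClosure_of_isN2 (isN2_of_isNagata hR) K L
  have : IsFractionRing R' L := IsIntegralClosure.isFractionRing_of_finite_extension R K L R'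
  have : IsIntegrallyClosed R' := integralClosure.isIntegrallyClosedOfFiniteExtension K
  let gT : T →ₐ[R] L := (IsScalarTower.toAlgHom R K L).comp g
  let : Algebra T L := gT.toRingHom.toAlgebra
  have : IsScalarTower R T L := .of_algebraMap_eq fun r => (gT.commutes r).symm
  obtain ⟨n, v, hv⟩ := Module.Finite.exists_fin (R := R) (M := R')
  let U : Subalgebra T L := Algebra.adjoin T (Set.range fun i => (v i : L))
  have : Module.Finite T U := Module.Finite.iff_fg.mpr (fg_adjoin_of_finite (Set.finite_range _)
    (by rintro _ ⟨i, rfl⟩; exact IsIntegral.tower_top (v i).2))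
  have hR'U : ∀ r : R', (r : L) ∈ U := fun r => by
    obtain ⟨c, hc⟩ := (Submodule.mem_span_range_iff_exists_fun R).mp
      (hv ▸ Submodule.mem_top : r ∈ Submodule.span R (Set.range v))
    have he := congrArg Subtype.val hc
    simp only [AddSubmonoidClass.coe_finsetSum, SetLike.val_smul] at he
    rw [← he]
    refine sum_mem fun i _ => ?_
    rw [← IsScalarTower.algebraMap_smul T (c i) (v i : L)]
    exact U.smul_mem (Algebra.subset_adjoin (Set.mem_range_self i)) _
  let ι : R' →+* U := (R'.val : R' →+* L).codRestrict U hR'U
  let : Algebra R' U := ι.toAlgebra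
  have : IsScalarTower R' U L := .of_algebraMap_eq fun _ => rfl
  let gU : U →ₐ[R'] L := { (U.val : U →+* L) with commutes' := fun _ => rfl }
  have hinjTU : Function.Injective (algebraMap T U) := fun a b h => by
    apply hg
    apply (algebraMap K L).injective
    exact congrArg Subtype.val h
  refine isReduced_atPrime_of_cover hinjTU M fun N hN hNM => ?_
  -- a root in `N`
  have hsplit : (f.map (algebraMap R L)).Splits := by
    rw [IsScalarTower.algebraMap_eq R K L, ← Polynomial.map_map]
    exact SplittingField.splits _
  let xU : U := algebraMap T U x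
  have hroot : ∀ c ∈ f.aroots L, IsIntegral R c := fun c hc =>
    ⟨f, hf, (mem_aroots'.mp hc).2⟩
  let cs : List R' := (f.aroots L).toList.attach.map fun c =>
    (⟨c.1, hroot c.1 (Multiset.mem_toList.mp c.2)⟩ : R')
  have hprod : algebraMap T U (aeval x f) = (cs.map fun c => xU - algebraMap R' U c).prod := by
    apply Subtype.val_injective
    change algebraMap T L (aeval x f) = U.val _
    rw [← aeval_algebraMap_apply, hsplit.aeval_eq_prod_aroots_of_monic hf,
      map_list_prod, List.map_map, ← Multiset.coe_toList (f.aroots L), Multiset.map_coe,
      Multiset.prod_coe]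
    congr 1
    simp only [cs, List.map_map]
    rw [← List.attach_map_val (f := fun c => (algebraMap T L) x - c)]
    rfl
  have hmem : algebraMap T U (aeval x f) ∈ N := by
    rw [← Ideal.mem_comap, hNM]; exact hfx
  rw [hprod] at hmem
  rw [← Multiset.prod_coe, hN.isPrime.multiset_prod_mem_iff_exists_mem] at hmem
  obtain ⟨_, hy, hyN⟩ := hmem
  obtain ⟨c, -, rfl⟩ := List.mem_map.mp hy
  have hgenU : Algebra.adjoin R' ({xU - algebraMap R' U c} : Set U) = ⊤ := by
    set A := Algebra.adjoin R' ({xU - algebraMap R' U c} : Set U)
    have hxA : xU ∈ A := by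
      have := add_mem (Algebra.self_mem_adjoin_singleton R' (xU - algebraMap R' U c))
        (A.algebraMap_mem c)
      rwa [sub_add_cancel] at this
    have hTA : ∀ t : T, algebraMap T U t ∈ A := by
      intro t
      have ht : t ∈ Algebra.adjoin R ({x} : Set T) := hgen ▸ Algebra.mem_top
      induction ht using Algebra.adjoin_induction with
      | mem y hy => rw [Set.mem_singleton_iff] at hy; exact hy ▸ hxA
      | algebraMap r =>
        convert A.algebraMap_mem (algebraMap R R' r) using 1
        apply Subtype.val_injective
        change algebraMap T L (algebraMap R T r) = algebraMap R L r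
        rw [← IsScalarTower.algebraMap_apply]
      | add a b _ _ ha hb => rw [map_add]; exact add_mem ha hb
      | mul a b _ _ ha hb => rw [map_mul]; exact mul_mem ha hb
    rw [eq_top_iff]
    rintro ⟨y, hy⟩ -
    induction hy using Algebra.adjoin_induction with
    | mem y hy =>
      obtain ⟨i, rfl⟩ := hy
      exact A.algebraMap_mem (v i)
    | algebraMap t => exact hTA t
    | add a b _ _ ha hb => exact add_mem ha hb
    | mul a b _ _ ha hb => exact mul_mem ha hb
  exact isReduced_atPrime_of_mem (isNagata_of_finite hR) gU Subtype.val_injective _ hgenU N hyN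

end Groth.Agent.NagataUJ
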