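import Mathlib
import Groth.Prelude.Def_Found
import Groth.Agent.NagataUJ.Residue
import Groth.Agent.S2072
import Groth.Agent.CohenStruct.Local

/-!
# Monogenic birational extensions of normal Nagata domains are N-1
-/

universe u

open IsLocalRing

namespace Groth.Agent.NagataUJ

/-- A finite type field over a field: residue rings at maximal ideals are integral. -/
theorem isIntegral_mk_of_isMaximal {R T : Type u} [CommRing R] [CommRing T] [Algebra R T]
    [Algebra.FiniteType R T] (M : Ideal T) [M.IsMaximal]
    (hm : (M.comap (algebraMap R T)).IsMaximal) (x : T) :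
    IsIntegral R (Ideal.Quotient.mk M x) := by
  let m := M.comap (algebraMap R T)
  let : Algebra (R ⧸ m) (T ⧸ M) := (Ideal.quotientMap M (algebraMap R T) le_rfl).toAlgebra
  have : IsScalarTower R (R ⧸ m) (T ⧸ M) := .of_algebraMap_eq fun _ => rfl
  let := Ideal.Quotient.field m
  let := Ideal.Quotient.field M
  have : Algebra.FiniteType (R ⧸ m) (T ⧸ M) :=
    Algebra.FiniteType.of_restrictScalars_finiteType R _ _
  have : Module.Finite (R ⧸ m) (T ⧸ M) :=
    finite_of_finite_type_of_isJacobsonRing (R ⧸ m) (T ⧸ M)
  exact isIntegral_trans _ (Algebra.IsIntegral.isIntegral (R := R ⧸ m) (Ideal.Quotient.mk M x))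

/-- The local rings at maximal ideals. -/
theorem isReduced_atPrime {R T K : Type u} [CommRing R] [IsDomain R] [IsIntegrallyClosed R]
    [CommRing T] [IsDomain T] [Algebra R T] [Field K] [Algebra R K] [IsFractionRing R K]
    (hR : CAlg.IsNagata R) (g : T →ₐ[R] K) (hg : Function.Injective g) (x : T)
    (hgen : Algebra.adjoin R ({x} : Set T) = ⊤) (M : Ideal T) [M.IsMaximal] :
    IsReduced (AdicCompletion (maximalIdeal (Localization.AtPrime M))
      (Localization.AtPrime M)) := by
  classical
  have := hR.1
  have : Algebra.FiniteType R T := ⟨⟨{x}, by rw [Finset.coe_singleton]; exact hgen⟩⟩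
  have : IsNoetherianRing T := Algebra.FiniteType.isNoetherianRing R T
  let p := M.comap (algebraMap R T)
  have : p.IsPrime := Ideal.IsPrime.comap _
  let Rp := Localization.AtPrime p
  let S' := Algebra.algebraMapSubmonoid T p.primeCompl
  let Tp := Localization S'
  let : Algebra Rp Tp := localizationAlgebra p.primeCompl T
  have : IsScalarTower R Rp Tp := isScalarTower_localizationAlgebra p.primeCompl T
  have hinjR : Function.Injective (algebraMap R T) := fun a b h => by
    apply IsFractionRing.injective R K
    rw [← g.commutes, ← g.commutes, h]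
  have hS' : S' ≤ nonZeroDivisors T := by
    rintro _ ⟨r, hr, rfl⟩
    exact mem_nonZeroDivisors_of_ne_zero
      ((map_ne_zero_iff _ hinjR).mpr fun h => hr (h ▸ p.zero_mem))
  have : IsDomain Tp := IsLocalization.isDomain_of_le_nonZeroDivisors Tp hS'
  have : IsIntegrallyClosed Rp :=
    isIntegrallyClosed_of_isLocalization Rp p.primeCompl p.primeCompl_le_nonZeroDivisors
  let : Algebra Rp K := IsLocalization.localizationAlgebraOfSubmonoidLe Rp K p.primeCompl
    (nonZeroDivisors R) p.primeCompl_le_nonZeroDivisors
  have : IsScalarTower R Rp K := IsLocalization.localization_isScalarTower_of_submonoid_le Rp K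
    p.primeCompl (nonZeroDivisors R) p.primeCompl_le_nonZeroDivisors
  have : IsFractionRing Rp K :=
    IsFractionRing.isFractionRing_of_isDomain_of_isLocalization p.primeCompl Rp K
  have hu : ∀ y : S', IsUnit (g.toRingHom y) := fun y =>
    Ne.isUnit ((map_ne_zero_iff g hg).mpr (nonZeroDivisors.coe_ne_zero ⟨y.1, hS' y.2⟩))
  let gp : Tp →+* K := IsLocalization.lift hu
  have hgp : Function.Injective gp := by
    rw [injective_iff_map_eq_zero]
    intro z hz
    obtain ⟨t, s, rfl⟩ := IsLocalization.exists_mk'_eq S' z
    rw [IsLocalization.lift_mk', Units.mul_left_eq_zero] at hz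
    rw [IsLocalization.mk'_eq_zero_iff]
    exact ⟨1, by rw [hg (hz.trans (map_zero g).symm), mul_zero]⟩
  let gp' : Tp →ₐ[Rp] K :=
    { gp with
      commutes' := fun r => by
        refine RingHom.congr_fun (IsLocalization.ringHom_ext p.primeCompl
          (j := gp.comp (algebraMap Rp Tp)) (k := algebraMap Rp K) ?_) r
        ext a
        simp only [RingHom.comp_apply]
        rw [← IsScalarTower.algebraMap_apply R Rp Tp, ← IsScalarTower.algebraMap_apply R Rp K,
          IsScalarTower.algebraMap_apply R T Tp, IsLocalization.lift_eq]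
        exact g.commutes a }
  let xp := algebraMap T Tp x
  have hgenp : Algebra.adjoin Rp ({xp} : Set Tp) = ⊤ := by
    set A := Algebra.adjoin Rp ({xp} : Set Tp)
    have hTA : ∀ t : T, algebraMap T Tp t ∈ A := by
      intro t
      have ht : t ∈ Algebra.adjoin R ({x} : Set T) := hgen ▸ Algebra.mem_top
      induction ht using Algebra.adjoin_induction with
      | mem y hy =>
        rw [Set.mem_singleton_iff] at hy
        exact hy ▸ Algebra.self_mem_adjoin_singleton Rp xp
      | algebraMap r =>
        rw [← IsScalarTower.algebraMap_apply, IsScalarTower.algebraMap_apply R Rp Tp]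
        exact A.algebraMap_mem _
      | add a b _ _ ha hb => rw [map_add]; exact add_mem ha hb
      | mul a b _ _ ha hb => rw [map_mul]; exact mul_mem ha hb
    rw [eq_top_iff]
    rintro z -
    obtain ⟨⟨t, ⟨_, s, hs, rfl⟩⟩, hz⟩ := IsLocalization.surj S' z
    obtain ⟨u, hu'⟩ := IsLocalization.map_units Rp (⟨s, hs⟩ : p.primeCompl)
    have : z = algebraMap Rp Tp ↑u⁻¹ * algebraMap T Tp t := by
      rw [← show z * algebraMap T Tp (algebraMap R T s) = algebraMap T Tp t from hz,
        ← IsScalarTower.algebraMap_apply, IsScalarTower.algebraMap_apply R Rp Tp,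
        show algebraMap R Rp s = u from hu'.symm, mul_left_comm, ← map_mul, Units.inv_mul,
        map_one, mul_one]
    rw [this]
    exact mul_mem (A.algebraMap_mem _) (hTA t)
  have hdisj : Disjoint (S' : Set T) M := Set.disjoint_left.mpr fun t ht htM => by
    obtain ⟨r, hr, rfl⟩ := ht
    exact hr htM
  let Q := M.map (algebraMap T Tp)
  have : Q.IsPrime := IsLocalization.isPrime_of_isPrime_disjoint S' Tp M inferInstance hdisj
  have hQM : Q.comap (algebraMap T Tp) = M :=
    IsLocalization.under_map_of_isPrime_disjoint S' Tp inferInstance hdisj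
  have : Q.IsMaximal := by
    obtain ⟨Q', hQ', hle⟩ := Ideal.exists_le_maximal Q (Ideal.IsPrime.ne_top ‹_›)
    have : Q = Q' := by
      refine le_antisymm hle fun z hz => ?_
      obtain ⟨⟨t, s⟩, hts⟩ := IsLocalization.surj S' z
      have h1 : M ≤ Q'.comap (algebraMap T Tp) := hQM ▸ Ideal.comap_mono hle
      have h2 := ‹M.IsMaximal›.eq_of_le (Ideal.IsPrime.ne_top (Ideal.IsPrime.comap _)) h1
      have h3 : t ∈ M := by
        rw [h2, Ideal.mem_comap, ← show z * algebraMap T Tp s = algebraMap T Tp t from hts]
        exact Ideal.mul_mem_right _ _ hz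
      rw [← Ideal.mul_unit_mem_iff_mem _ (IsLocalization.map_units Tp s),
        show z * algebraMap T Tp s = algebraMap T Tp t from hts]
      exact Ideal.mem_map_of_mem _ h3
    exact this ▸ hQ'
  have hQp : (Q.comap (algebraMap Rp Tp)).IsMaximal := by
    have h1 : (Q.comap (algebraMap Rp Tp)).comap (algebraMap R Rp) = p := by
      rw [Ideal.comap_comap, ← IsScalarTower.algebraMap_eq, IsScalarTower.algebraMap_eq R T Tp,
        ← Ideal.comap_comap, hQM]
    rw [← IsLocalization.map_under p.primeCompl Rp (Q.comap (algebraMap Rp Tp)), Ideal.under_def,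
      h1, Localization.AtPrime.map_eq_maximalIdeal]
    exact maximalIdeal.isMaximal Rp
  have : Algebra.FiniteType Rp Tp := ⟨⟨{xp}, by rw [Finset.coe_singleton]; exact hgenp⟩⟩
  obtain ⟨f, hf, hfx⟩ := isIntegral_mk_of_isMaximal Q hQp xp
  refine (isReduced_completion_transfer S' Q M hQM).mpr
    (isReduced_atPrime_of_residue (NagataLib.isNagata_localization hR p.primeCompl Rp) gp' hgp xp
      hgenp Q f hf ?_)
  rw [← Ideal.Quotient.eq_zero_iff_mem, ← Ideal.Quotient.mkₐ_eq_mk Rp, ← Polynomial.aeval_algHom_apply]
  exact hfx

/-- A monogenic birational extension of a normal Nagata domain has finite integral closure. -/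
theorem finite_integralClosure_monogenic {R T K : Type u} [CommRing R] [IsDomain R]
    [IsIntegrallyClosed R] [CommRing T] [IsDomain T] [Algebra R T] [Field K] [Algebra R K]
    [IsFractionRing R K] [Algebra T K] [IsScalarTower R T K]
    (hinj : Function.Injective (algebraMap T K))
    (hR : CAlg.IsNagata R) (x : T) (hgen : Algebra.adjoin R ({x} : Set T) = ⊤) :
    Module.Finite T (integralClosure T K) := by
  classical
  have := hR.1
  have : Algebra.FiniteType R T := ⟨⟨{x}, by rw [Finset.coe_singleton]; exact hgen⟩⟩
  have : IsNoetherianRing T := Algebra.FiniteType.isNoetherianRing R T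
  let g : T →ₐ[R] K := IsScalarTower.toAlgHom R T K
  have : FaithfulSMul T K := (faithfulSMul_iff_algebraMap_injective T K).mpr hinj
  have : IsFractionRing T K := by
    refine IsFractionRing.of_field T K fun z => ?_
    obtain ⟨a, b, -, rfl⟩ := IsFractionRing.div_surjective (A := R) z
    exact ⟨algebraMap R T a, algebraMap R T b, by rw [← IsScalarTower.algebraMap_apply, ← IsScalarTower.algebraMap_apply]⟩
  obtain ⟨⟨a, b⟩, hab⟩ := IsLocalization.surj (nonZeroDivisors R) (algebraMap T K x)
  let W := Localization.Away (b : R)
  have hb : Submonoid.powers (b : R) ≤ nonZeroDivisors R := Submonoid.powers_le.mpr b.2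
  let : Algebra W K := IsLocalization.localizationAlgebraOfSubmonoidLe W K
    (Submonoid.powers (b : R)) (nonZeroDivisors R) hb
  have : IsScalarTower R W K := IsLocalization.localization_isScalarTower_of_submonoid_le W K
    (Submonoid.powers (b : R)) (nonZeroDivisors R) hb
  have : IsDomain W := IsLocalization.isDomain_of_le_nonZeroDivisors W hb
  have : IsFractionRing W K :=
    IsFractionRing.isFractionRing_of_isDomain_of_isLocalization (Submonoid.powers (b : R)) W K
  have : IsIntegrallyClosed W := isIntegrallyClosed_of_isLocalization W _ hb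
  let j := IsScalarTower.toAlgHom R W K
  have hTW : ∀ t : T, g t ∈ j.range := by
    intro t
    have ht : t ∈ Algebra.adjoin R ({x} : Set T) := hgen ▸ Algebra.mem_top
    induction ht using Algebra.adjoin_induction with
    | mem y hy =>
      rw [Set.mem_singleton_iff] at hy
      subst hy
      refine ⟨IsLocalization.mk' W a (⟨(b : R), Submonoid.mem_powers _⟩ : Submonoid.powers (b : R)), ?_⟩
      have hbK : algebraMap R K (b : R) ≠ 0 :=
        (map_ne_zero_iff _ (IsFractionRing.injective R K)).mpr (nonZeroDivisors.coe_ne_zero b)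
      apply mul_right_cancel₀ hbK
      change algebraMap W K _ * _ = algebraMap T K y * _
      rw [hab, IsScalarTower.algebraMap_apply R W K, ← map_mul, IsLocalization.mk'_spec,
        ← IsScalarTower.algebraMap_apply]
    | algebraMap r => rw [g.commutes]; exact j.range.algebraMap_mem r
    | add u v _ _ hu hv => rw [map_add]; exact add_mem hu hv
    | mul u v _ _ hu hv => rw [map_mul]; exact mul_mem hu hv
  let φ : T →+* W := (AlgEquiv.ofInjective j (IsFractionRing.injective W K)).symm.toRingHom.comp
    (g.codRestrict j.range hTW).toRingHom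
  let : Algebra T W := φ.toAlgebra
  have : IsScalarTower T W K := .of_algebraMap_eq fun t => by
    change algebraMap T K t = j ((AlgEquiv.ofInjective j (IsFractionRing.injective W K)).symm
      ⟨g t, hTW t⟩)
    conv_lhs => rw [show algebraMap T K t = ((⟨g t, hTW t⟩ : j.range) : K) from rfl]
    rw [← AlgEquiv.ofInjective_apply j (IsFractionRing.injective W K),
      AlgEquiv.apply_symm_apply]
  have hbT : algebraMap T K (algebraMap R T (b : R)) ≠ 0 := by
    rw [← IsScalarTower.algebraMap_apply]
    exact (map_ne_zero_iff _ (IsFractionRing.injective R K)).mpr (nonZeroDivisors.coe_ne_zero b)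
  refine CohenStruct.finite_integralClosure_of_local (⊥ : Subalgebra T K)
    (⟨algebraMap T K (algebraMap R T (b : R)), Subalgebra.algebraMap_mem _ _⟩) hbT
    (fun z hz => ?_) fun m hm => ?_
  · obtain ⟨w, hw⟩ := IsIntegrallyClosed.isIntegral_iff.mp (hz.tower_top (A := W))
    obtain ⟨r, ⟨_, k, rfl⟩, rfl⟩ := IsLocalization.exists_mk'_eq (Submonoid.powers (b : R)) w
    refine ⟨k, Algebra.mem_bot.mpr ⟨algebraMap R T r, ?_⟩⟩
    change algebraMap T K (algebraMap R T r) = algebraMap T K (algebraMap R T (b : R)) ^ k * z
    rw [← hw, ← IsScalarTower.algebraMap_apply, ← IsScalarTower.algebraMap_apply,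
      IsScalarTower.algebraMap_apply R W K r, IsScalarTower.algebraMap_apply R W K (b : R),
      ← map_pow, ← map_mul, ← map_pow]
    exact congrArg _ (IsLocalization.mk'_spec' W r
      (⟨(b : R) ^ k, k, rfl⟩ : Submonoid.powers (b : R))).symm
  · have := isReduced_atPrime hR g hinj x hgen m
    let Tm := Localization.AtPrime m
    let : Algebra Tm K := IsLocalization.localizationAlgebraOfSubmonoidLe Tm K m.primeCompl
      (nonZeroDivisors T) m.primeCompl_le_nonZeroDivisors
    have : IsScalarTower T Tm K := IsLocalization.localization_isScalarTower_of_submonoid_le Tm K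
      m.primeCompl (nonZeroDivisors T) m.primeCompl_le_nonZeroDivisors
    have : IsFractionRing Tm K :=
      IsFractionRing.isFractionRing_of_isDomain_of_isLocalization m.primeCompl Tm K
    have : Module.Finite Tm (integralClosure Tm K) :=
      (NagataLib.isN1_iff K).mp (S2072.result (R := Tm))
    exact CohenStruct.exists_generators_localization m.primeCompl Tm

end Groth.Agent.NagataUJ
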