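import Mathlib
import Groth.Prelude.Def_Found
import Groth.Agent.NagataUJ.Monogenic
import Groth.Agent.NagataLib.Polynomial

/-!
# Algebras of finite type over Nagata rings are Nagata
-/

universe u

namespace Groth.Agent.NagataUJ

/-- A monogenic domain over a Nagata domain is N-2. -/
theorem isN2_monogenic {R T : Type u} [CommRing R] [IsDomain R] [CommRing T] [IsDomain T]
    [Algebra R T] (hinj : Function.Injective (algebraMap R T)) (hR : CAlg.IsNagata R) (x : T)
    (hgen : Algebra.adjoin R ({x} : Set T) = ⊤) : CAlg.IsN2 T := by
  classical
  have := hR.1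
  by_cases hx : Transcendental R x
  · let e : Polynomial R ≃ₐ[R] T := AlgEquiv.ofBijective (Polynomial.aeval x)
      ⟨transcendental_iff_injective.mp hx, fun t => by
        have ht : t ∈ Algebra.adjoin R ({x} : Set T) := hgen ▸ Algebra.mem_top
        rwa [Algebra.adjoin_singleton_eq_range_aeval] at ht⟩
    exact NagataLib.isN2_of_ringEquiv e.toRingEquiv
      (NagataLib.isN2_polynomial (isN2_of_isNagata hR))
  intro L _ _ _ _ hL
  have : Algebra.FiniteType R T := ⟨⟨{x}, by rw [Finset.coe_singleton]; exact hgen⟩⟩
  have : IsNoetherianRing T := Algebra.FiniteType.isNoetherianRing R T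
  let K := FractionRing R
  let FT := FractionRing T
  let : Algebra R L := ((algebraMap T L).comp (algebraMap R T)).toAlgebra
  have : IsScalarTower R T L := .of_algebraMap_eq fun _ => rfl
  have hTL : Function.Injective (algebraMap T L) := by
    rw [IsScalarTower.algebraMap_eq T FT L]
    exact (algebraMap FT L).injective.comp (IsFractionRing.injective T FT)
  have hRL : Function.Injective (algebraMap R L) := hTL.comp hinj
  have : FaithfulSMul R L := (faithfulSMul_iff_algebraMap_injective R L).mpr hRL
  let := FractionRing.liftAlgebra R L
  have : IsScalarTower R K L := FractionRing.isScalarTower_liftAlgebra R L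
  have hint : ∀ t : T, IsIntegral K (algebraMap T L t) := by
    intro t
    have ht : t ∈ Algebra.adjoin R ({x} : Set T) := hgen ▸ Algebra.mem_top
    induction ht using Algebra.adjoin_induction with
    | mem y hy =>
      rw [Set.mem_singleton_iff] at hy
      subst hy
      have h1 : IsAlgebraic R (algebraMap T L y) := (not_not.mp hx).algebraMap
      exact ((IsFractionRing.isAlgebraic_iff R K L).mp h1).isIntegral
    | algebraMap r =>
      rw [← IsScalarTower.algebraMap_apply, IsScalarTower.algebraMap_apply R K L]
      exact isIntegral_algebraMap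
    | add a b _ _ ha hb => rw [map_add]; exact ha.add hb
    | mul a b _ _ ha hb => rw [map_mul]; exact ha.mul hb
  have halg : Algebra.IsAlgebraic K L := ⟨fun z => by
    let E : Subalgebra K L := integralClosure K L
    have hE : ∀ c : FT, algebraMap FT L c ∈ E := fun c => by
      obtain ⟨a, b, -, rfl⟩ := IsFractionRing.div_surjective (A := T) c
      rw [map_div₀, ← IsScalarTower.algebraMap_apply, ← IsScalarTower.algebraMap_apply,
        div_eq_mul_inv]
      exact (hint a).mul (hint b).inv
    let : Algebra FT E := ((algebraMap FT L).codRestrict E hE).toAlgebra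
    have : IsScalarTower FT E L := .of_algebraMap_eq fun _ => rfl
    exact (isIntegral_trans (R := K) (A := E) z
      (IsIntegral.tower_top (R := FT) (Algebra.IsIntegral.isIntegral z))).isAlgebraic⟩
  have : Algebra.EssFiniteType T FT := Algebra.EssFiniteType.of_isLocalization FT (nonZeroDivisors T)
  have : Algebra.EssFiniteType T L := Algebra.EssFiniteType.comp T FT L
  have : Algebra.EssFiniteType R L := Algebra.EssFiniteType.comp R T L
  have : Algebra.EssFiniteType K L := Algebra.EssFiniteType.of_comp R K L
  have : FiniteDimensional K L := Algebra.finite_of_essFiniteType_of_isAlgebraic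
  let R' := integralClosure R L
  have : Module.Finite R R' :=
    NagataLib.finite_integralClosure_of_isN2 (isN2_of_isNagata hR) K L
  have : IsFractionRing R' L := IsIntegralClosure.isFractionRing_of_finite_extension R K L R'
  have : IsIntegrallyClosed R' := integralClosure.isIntegrallyClosedOfFiniteExtension K
  obtain ⟨n, v, hv⟩ := Module.Finite.exists_fin (R := R) (M := R')
  let U : Subalgebra T L := Algebra.adjoin T (Set.range fun i => (v i : L))
  have : Module.Finite T U := Module.Finite.iff_fg.mpr (fg_adjoin_of_finite (Set.finite_range _)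
    (by rintro _ ⟨i, rfl⟩; exact IsIntegral.tower_top (v i).2))
  have hR'U : ∀ r : R', (r : L) ∈ U := fun r => by
    obtain ⟨c, hc⟩ := (Submodule.mem_span_range_iff_exists_fun R).mp
      (hv ▸ Submodule.mem_top : r ∈ Submodule.span R (Set.range v))
    have he := congrArg Subtype.val hc
    simp only [AddSubmonoidClass.coe_finsetSum, SetLike.val_smul] at he
    rw [← he]
    refine sum_mem fun i _ => ?_
    rw [← IsScalarTower.algebraMap_smul T (c i) (v i : L)]
    exact U.smul_mem (Algebra.subset_adjoin (Set.mem_range_self i)) _
  let ι : R' →+* U := (R'.val : R' →+* L).codRestrict U hR'U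
  let : Algebra R' U := ι.toAlgebra
  have : IsScalarTower R' U L := .of_algebraMap_eq fun _ => rfl
  let xU : U := algebraMap T U x
  have hgenU : Algebra.adjoin R' ({xU} : Set U) = ⊤ := by
    set A := Algebra.adjoin R' ({xU} : Set U)
    have hTA : ∀ t : T, algebraMap T U t ∈ A := by
      intro t
      have ht : t ∈ Algebra.adjoin R ({x} : Set T) := hgen ▸ Algebra.mem_top
      induction ht using Algebra.adjoin_induction with
      | mem y hy =>
        rw [Set.mem_singleton_iff] at hy
        exact hy ▸ Algebra.self_mem_adjoin_singleton R' xU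
      | algebraMap r =>
        convert A.algebraMap_mem (algebraMap R R' r) using 1
        exact Subtype.ext (IsScalarTower.algebraMap_apply R T L r).symm
      | add a b _ _ ha hb => rw [map_add]; exact add_mem ha hb
      | mul a b _ _ ha hb => rw [map_mul]; exact mul_mem ha hb
    rw [eq_top_iff]
    rintro ⟨y, hy⟩ -
    induction hy using Algebra.adjoin_induction with
    | mem y hy =>
      obtain ⟨i, rfl⟩ := hy
      exact A.algebraMap_mem (v i)
    | algebraMap t => exact hTA t
    | add a b _ _ ha hb => exact add_mem ha hb
    | mul a b _ _ ha hb => exact mul_mem ha hb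
  exact NagataLib.finite_integralClosure_of_tower (finite_integralClosure_monogenic (R := R') (T := U)
    Subtype.val_injective (isNagata_of_finite hR) xU hgenU)

/-- A monogenic algebra over a Nagata ring is Nagata. -/
theorem isNagata_monogenic {R T : Type u} [CommRing R] [CommRing T] [Algebra R T]
    (hR : CAlg.IsNagata R) (x : T) (hgen : Algebra.adjoin R ({x} : Set T) = ⊤) :
    CAlg.IsNagata T := by
  have := hR.1
  have : Algebra.FiniteType R T := ⟨⟨{x}, by rw [Finset.coe_singleton]; exact hgen⟩⟩
  refine ⟨Algebra.FiniteType.isNoetherianRing R T, fun q _ => ?_⟩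
  let p := q.comap (algebraMap R T)
  have : p.IsPrime := Ideal.IsPrime.comap _
  let : Algebra (R ⧸ p) (T ⧸ q) := (Ideal.quotientMap q (algebraMap R T) le_rfl).toAlgebra
  refine isN2_monogenic (R := R ⧸ p) Ideal.quotientMap_injective (isNagata_of_finite hR)
    (Ideal.Quotient.mk q x) ?_
  rw [eq_top_iff]
  rintro y -
  obtain ⟨y, rfl⟩ := Ideal.Quotient.mk_surjective y
  have hy : y ∈ Algebra.adjoin R ({x} : Set T) := hgen ▸ Algebra.mem_top
  induction hy using Algebra.adjoin_induction with
  | mem z hz =>
    rw [Set.mem_singleton_iff] at hz
    exact hz ▸ Algebra.self_mem_adjoin_singleton _ _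
  | algebraMap r => exact Subalgebra.algebraMap_mem _ (Ideal.Quotient.mk p r)
  | add a b _ _ ha hb => rw [map_add]; exact add_mem ha hb
  | mul a b _ _ ha hb => rw [map_mul]; exact mul_mem ha hb

/-- Polynomial rings over Nagata rings are Nagata. -/
theorem isNagata_polynomial {R : Type u} [CommRing R] (hR : CAlg.IsNagata R) :
    CAlg.IsNagata (Polynomial R) :=
  isNagata_monogenic hR Polynomial.X Polynomial.adjoin_X

/-- An algebra of finite type over a Nagata ring is Nagata. -/
theorem isNagata_of_finiteType {R S : Type u} [CommRing R] (hR : CAlg.IsNagata R) [CommRing S]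
    [Algebra R S] [Algebra.FiniteType R S] : CAlg.IsNagata S := by
  obtain ⟨n, f, hf⟩ := Algebra.FiniteType.iff_quotient_mvPolynomial''.mp ‹Algebra.FiniteType R S›
  have h : ∀ n : ℕ, CAlg.IsNagata (MvPolynomial (Fin n) R) := by
    intro n
    induction n with
    | zero =>
      let e := (MvPolynomial.isEmptyAlgEquiv R (Fin 0)).symm
      have : Module.Finite R (MvPolynomial (Fin 0) R) :=
        Module.Finite.of_surjective e.toLinearMap e.surjective
      exact isNagata_of_finite hR
    | succ n ih =>
      let e := (MvPolynomial.finSuccEquiv R n).toRingEquiv.symm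
      let : Algebra (Polynomial (MvPolynomial (Fin n) R)) (MvPolynomial (Fin (n + 1)) R) :=
        (e : _ →+* _).toAlgebra
      have : Module.Finite (Polynomial (MvPolynomial (Fin n) R)) (MvPolynomial (Fin (n + 1)) R) :=
        Module.Finite.of_surjective (Algebra.linearMap _ _) e.surjective
      exact isNagata_of_finite (isNagata_polynomial ih)
  let := f.toRingHom.toAlgebra
  have : Module.Finite (MvPolynomial (Fin n) R) S :=
    Module.Finite.of_surjective (Algebra.linearMap _ _) hf
  exact isNagata_of_finite (h n)

end Groth.Agent.NagataUJ
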