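import Groth.Agent.NagataUJ.Main
import Groth.Agent.NagataLib.SchemeLocal

/-!
# Schemes locally of finite type over Nagata schemes are Nagata
-/

universe u

open CategoryTheory AlgebraicGeometry

namespace Groth.Agent.NagataUJ

/-- A scheme locally of finite type over a Nagata scheme is Nagata. -/
theorem isNagata_of_lft {X Y : Scheme.{u}} (f : X ⟶ Y) [LocallyOfFiniteType f]
    (hY : ∀ V : Y.Opens, IsAffineOpen V → CAlg.IsNagata Γ(Y, V)) (U : X.Opens)
    (hU : IsAffineOpen U) : CAlg.IsNagata Γ(X, U) := by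
  let I := {p : X.affineOpens × Y.affineOpens // p.1.1 ≤ f ⁻¹ᵁ p.2.1}
  refine NagataLib.isNagata_of_cover (fun p : I => p.1.1.1) ?_ (fun p => p.1.1.2) (fun p => ?_) U hU
  · refine TopologicalSpace.Opens.ext (Set.eq_univ_of_forall fun x => ?_)
    obtain ⟨V, hV, hxV, -⟩ :=
      (Y.isBasis_affineOpens).exists_subset_of_mem_open (Set.mem_univ (f.base x)) isOpen_univ
    obtain ⟨V, rfl⟩ : ∃ V' : Y.affineOpens, (V'.1 : Set Y) = V := by
      obtain ⟨V', hV', rfl⟩ := hV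
      exact ⟨⟨V', hV'⟩, rfl⟩
    obtain ⟨W, hW, hxW, hle⟩ :=
      (X.isBasis_affineOpens).exists_subset_of_mem_open (show x ∈ (f ⁻¹ᵁ V.1 : Set X) from hxV)
        (f ⁻¹ᵁ V.1).isOpen
    obtain ⟨W, hW', rfl⟩ := hW
    exact TopologicalSpace.Opens.mem_iSup.mpr ⟨⟨⟨⟨W, hW'⟩, V⟩, hle⟩, hxW⟩
  · have hft := LocallyOfFiniteType.finiteType_appLE f p.1.2.2 p.1.1.2 p.2
    let := (f.appLE p.1.2.1 p.1.1.1 p.2).hom.toAlgebra
    have : Algebra.FiniteType Γ(Y, p.1.2.1) Γ(X, p.1.1.1) := hft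
    exact isNagata_of_finiteType (hY _ p.1.2.2)

end Groth.Agent.NagataUJ
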